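import Mathlib

/-!
# S4942: the Hecke algebra of type `A₂` (helper82)

* `zeta_one` : the braid relation up to a root of unity is the braid relation;
* `a2_eig` : the eigenvalues of `∑ q^(3 - ℓ w) T_w T_(w⁻¹)`.
-/

set_option autoImplicit false

namespace Cfsg.Agent.VAN.F

variable {E : Type*} [AddCommGroup E] [Module ℂ E] {x y : Module.End ℂ E} {q : ℂ}

theorem quad_root (hx : x * x = (q - 1) • x + q • 1) {v : E} (hv : v ≠ 0) {c : ℂ} (hc : x v = c • v) :
    c = q ∨ c = -1 := by
  have h1 := LinearMap.congr_fun hx v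
  simp only [Module.End.mul_apply, LinearMap.add_apply, LinearMap.smul_apply, Module.End.one_apply, hc, map_smul,
    smul_smul] at h1
  have h2 : ((c - q) * (c + 1)) • v = 0 := by linear_combination (norm := module) h1
  rcases mul_eq_zero.1 ((smul_eq_zero.1 h2).resolve_right hv) with h | h
  · exact Or.inl (sub_eq_zero.1 h)
  · exact Or.inr (eq_neg_of_add_eq_zero_left h)

theorem quad_ne (hq : q ≠ 0) (hx : x * x = (q - 1) • x + q • 1) {v : E} (hv : v ≠ 0) : x v ≠ 0 := fun h => by
  rcases quad_root hx hv (c := 0) (by rw [h, zero_smul]) with h | h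
  · exact hq h.symm
  · norm_num at h

theorem zeta_one {k : ℕ} (hk : 1 < k) (hq : q = k) (hx : x * x = (q - 1) • x + q • 1) (hy : y * y = (q - 1) • y + q • 1)
    {z : ℂ} (hz : ‖z‖ = 1) (hb : x * y * x = z • (y * x * y)) {v : E} (hv : v ≠ 0) : z = 1 := by
  have hk' : (1 : ℝ) < k := by exact_mod_cast hk
  have hq0 : q ≠ 0 := by
    rw [hq]
    exact_mod_cast (by omega : k ≠ 0)
  obtain ⟨w, hw, b, hb'⟩ : ∃ w : E, w ≠ 0 ∧ ∃ b : ℂ, y w = b • w := by
    by_cases h : y v + v = 0
    · exact ⟨v, hv, -1, by rw [neg_smul, one_smul, eq_neg_of_add_eq_zero_left h]⟩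
    · refine ⟨_, h, q, ?_⟩
      have h1 := LinearMap.congr_fun hy v
      simp only [Module.End.mul_apply, LinearMap.add_apply, LinearMap.smul_apply, Module.End.one_apply] at h1
      rw [map_add, h1]
      module
  have h1 := LinearMap.congr_fun hb w
  simp only [Module.End.mul_apply, LinearMap.smul_apply, hb', map_smul, smul_smul] at h1
  have h2 := quad_root hx (quad_ne hq0 hy (quad_ne hq0 hx hw)) h1
  have h3 : ‖q‖ = k := by rw [hq, Complex.norm_natCast]
  rcases quad_root hy hw hb' with rfl | rfl <;> rcases h2 with h | h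
  · exact mul_right_cancel₀ hq0 (by rw [h, one_mul])
  · have h4 := congrArg norm h
    rw [norm_mul, hz, h3, norm_neg, norm_one] at h4
    linarith
  · have h4 := congrArg norm h
    rw [norm_mul, hz, h3, norm_neg, norm_one] at h4
    linarith
  · linear_combination -h

theorem a2_eig (hq : 1 + q ≠ 0) (hx : x * x = (q - 1) • x + q • 1) (hy : y * y = (q - 1) • y + q • 1)
    (hb : x * y * x = y * x * y) {v : E} (hv : v ≠ 0) {c : ℂ}
    (hc : (q ^ 3 • 1 + q ^ 2 • (x * x) + q ^ 2 • (y * y) + q • (x * y * (y * x)) + q • (y * x * (x * y)) +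
      x * y * x * (x * y * x) : Module.End ℂ E) v = c • v) :
    c = q ^ 3 * ((1 + q) * (1 + q + q ^ 2)) ∨ c = (1 + q) * (1 + q + q ^ 2) ∨ c = 2 * q ^ 2 * (1 + q + q ^ 2) := by
  have hx' : ∀ w, x * (x * w) = (q - 1) • (x * w) + q • w := fun w => by
    rw [← mul_assoc, hx, add_mul, smul_mul_assoc, smul_mul_assoc, one_mul]
  have hy' : ∀ w, y * (y * w) = (q - 1) • (y * w) + q • w := fun w => by
    rw [← mul_assoc, hy, add_mul, smul_mul_assoc, smul_mul_assoc, one_mul]
  have hb' : ∀ w, y * (x * (y * w)) = x * (y * (x * w)) := fun w => by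
    rw [← mul_assoc, ← mul_assoc, ← hb, mul_assoc, mul_assoc]
  have hb'' : y * (x * y) = x * (y * x) := by rw [← mul_assoc, ← hb, mul_assoc]
  obtain ⟨Z, hZ⟩ : ∃ Z : Module.End ℂ E, Z = q ^ 3 • 1 + q ^ 2 • (x * x) + q ^ 2 • (y * y) + q • (x * y * (y * x)) +
    q • (y * x * (x * y)) + x * y * x * (x * y * x) := ⟨_, rfl⟩
  obtain ⟨e, he⟩ : ∃ e : Module.End ℂ E, e = 1 + x + y + x * y + y * x + x * (y * x) := ⟨_, rfl⟩
  obtain ⟨f, hf⟩ : ∃ f : Module.End ℂ E, f = q ^ 3 • 1 + (-q ^ 2) • x + (-q ^ 2) • y + q • (x * y) + q • (y * x) +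
    (-1 : ℂ) • (x * (y * x)) := ⟨_, rfl⟩
  rw [← hZ] at hc
  have h0 : (1 + q) • Z = ((1 + q) * (2 * q ^ 2 * (1 + q + q ^ 2))) • 1 + (q ^ 2 * (q + 2) * (q - 1)) • e +
      (-(q - 1) * (2 * q + 1)) • f := by
    rw [hZ, he, hf]
    simp only [mul_add, add_mul, mul_smul_comm, mul_assoc, mul_one, hx', hy', hb', hb'', hx, hy]
    module
  have hee : e * e = ((1 + q) * (1 + q + q ^ 2)) • e := by
    rw [he]
    simp only [mul_add, add_mul, mul_smul_comm, mul_assoc, mul_one, one_mul, hx', hy', hb', hb'', hx, hy]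
    module
  have hef : e * f = 0 := by
    rw [he, hf]
    simp only [mul_add, add_mul, mul_smul_comm, mul_assoc, mul_one, one_mul, hx', hy', hb', hb'', hx, hy]
    module
  have hfe : f * e = 0 := by
    rw [he, hf]
    simp only [mul_add, add_mul, mul_smul_comm, smul_mul_assoc, mul_assoc, mul_one, one_mul, hx', hy', hb', hb'', hx, hy]
    module
  have hff : f * f = ((1 + q) * (1 + q + q ^ 2)) • f := by
    rw [hf]
    simp only [mul_add, add_mul, mul_smul_comm, smul_mul_assoc, mul_assoc, mul_one, one_mul, hx', hy', hb', hb'', hx, hy]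
    module
  have h1 := LinearMap.congr_fun h0 v
  simp only [LinearMap.add_apply, LinearMap.smul_apply, Module.End.one_apply, hc] at h1
  have h2 := congrArg e h1
  have h3 := congrArg f h1
  simp only [map_add, map_smul, ← Module.End.mul_apply, hee, hef, hfe, hff, LinearMap.smul_apply,
    LinearMap.zero_apply] at h2 h3
  by_cases h4 : e v = 0
  · by_cases h5 : f v = 0
    · rw [h4, h5] at h1
      have h6 : ((1 + q) * (c - 2 * q ^ 2 * (1 + q + q ^ 2))) • v = 0 := by linear_combination (norm := module) h1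
      exact Or.inr (Or.inr (sub_eq_zero.1 ((mul_eq_zero.1 ((smul_eq_zero.1 h6).resolve_right hv)).resolve_left hq)))
    · have h6 : ((1 + q) * (c - (1 + q) * (1 + q + q ^ 2))) • f v = 0 := by linear_combination (norm := module) h3
      exact Or.inr (Or.inl (sub_eq_zero.1 ((mul_eq_zero.1 ((smul_eq_zero.1 h6).resolve_right h5)).resolve_left hq)))
  · have h6 : ((1 + q) * (c - q ^ 3 * ((1 + q) * (1 + q + q ^ 2)))) • e v = 0 := by linear_combination (norm := module) h2
    exact Or.inl (sub_eq_zero.1 ((mul_eq_zero.1 ((smul_eq_zero.1 h6).resolve_right h4)).resolve_left hq))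

end Cfsg.Agent.VAN.F
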