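import Cfsg.Agent.VAN.HC.All
import Cfsg.Agent.H589.FF.Main

/-!
# S4942, type `F₄`: the degrees of the constituents of `1_B^G` with two non-zero elliptic values (helper75)
-/

set_option autoImplicit false
set_option linter.unusedSectionVars false

namespace Cfsg.Agent.VAN.F

open CoxeterSystem Cfsg.Agent.ChevalleyStructure.CoxeterGeom Cfsg.Agent.Tits.Roots Cfsg.Agent.Tits.Core
  Cfsg.Agent.Tits.Exchange Cfsg.Agent.Nodes.Reps Cfsg.Agent.Nodes.BNOf Cfsg.Agent.Nodes.Bruhat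
  Cfsg.Agent.Nodes.LeviDec Cfsg.Agent.H985.VZ Cfsg.Agent.Characters.Core Module Cfsg.Agent.H943.FF
  Cfsg.Agent.H589.FF Cfsg.Agent.H589.FF.WF

/-- the double cosets of `W_{012}` -/
def D3 : List (List (Fin 4) × List (List (Fin 4))) :=
  [([], [[]]), ([3], Lb), ([3, 2, 1, 2, 3], [[], [0], [1, 0], [2, 1, 0], [1, 2, 1, 0], [0, 1, 2, 1, 0]]),
    ([3, 2, 1, 2, 0, 1, 2, 3], Lb), ([3, 2, 1, 2, 0, 1, 2, 3, 2, 1, 2, 0, 1, 2, 3], [[]])]

section

variable {W : Type*} [Group W] [Finite W] (cs : CoxeterSystem CoxeterMatrix.F₄ W)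

theorem sum_012 (z : ℂ) : ∑ᶠ x : WJ cs ({0, 1, 2} : Set (Fin 4)), z ^ cs.length (x : W) =
    (1 + z) ^ 2 * (1 + z + z ^ 2) * (1 + z ^ 2) * (1 + z ^ 3) := by
  obtain ⟨k0, k1, k2, k3, k4⟩ := cards cs
  have h1 : z ^ cs.length (1 : W) = 1 := by rw [cs.length_one, pow_zero]
  have hψ : ∀ i w, cs.length w < cs.length (cs.simple i * w) →
      z ^ cs.length (cs.simple i * w) = z * z ^ cs.length w := fun i w hw => by
    have e1 := cs.length_simple_mul w i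
    rw [show cs.length (cs.simple i * w) = cs.length w + 1 by omega, pow_succ, mul_comm]
  have e1 := sum_psi cs (c := fun _ => z) (ψ := fun w => z ^ cs.length w) h1 hψ (J := {0, 1}) (K := {0, 1, 2})
    (by simp [Set.insert_subset_iff]) Lb mem_Lb (by decide +kernel) (by decide +kernel) (min_Lb cs)
    (by rw [k1, k2]; decide)
  have e2 := sum_psi cs (c := fun _ => z) (ψ := fun w => z ^ cs.length w) h1 hψ (J := {0}) (K := {0, 1}) (by simp) Lc
    mem_Lc (by decide +kernel) (by decide +kernel) (min_Lc cs) (by rw [k2, k3]; decide)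
  have e3 := sum_psi cs (c := fun _ => z) (ψ := fun w => z ^ cs.length w) h1 hψ (J := ∅) (K := {0}) (by simp) Ld
    mem_Ld (by decide +kernel) (by decide +kernel) (min_Ld cs) (by rw [k3, k4]; decide)
  have e4 : ∑ᶠ x : WJ cs (∅ : Set (Fin 4)), z ^ cs.length (x : W) = 1 := by
    have : Subsingleton (WJ cs (∅ : Set (Fin 4))) := Finite.card_le_one_iff_subsingleton.1 k4.le
    have := Fintype.ofFinite (WJ cs (∅ : Set (Fin 4)))
    rw [finsum_eq_sum_of_fintype, Fintype.sum_subsingleton _ (1 : WJ cs (∅ : Set (Fin 4)))]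
    exact h1
  rw [e1, e2, e3, e4]
  simp only [Lb, Lc, Ld, List.map_cons, List.map_nil, List.sum_cons, List.sum_nil, List.prod_cons, List.prod_nil]
  ring

theorem sum_dc012 {Φ : W → ℂ} {z : ℂ}
    (hL : ∀ k ∈ ({0, 1, 2} : Set (Fin 4)), ∀ w, cs.length w < cs.length (cs.simple k * w) →
      Φ (cs.simple k * w) = z * Φ w)
    (hR : ∀ j ∈ ({0, 1, 2} : Set (Fin 4)), ∀ w, cs.length w < cs.length (w * cs.simple j) →
      Φ (w * cs.simple j) = z * Φ w) :
    ∑ᶠ w : W, Φ w = (1 + z) ^ 2 * (1 + z + z ^ 2) * (1 + z ^ 2) * (1 + z ^ 3) *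
      (Φ (cs.wordProd []) + (1 + z) * (1 + z ^ 2) * (1 + z ^ 3) * Φ (cs.wordProd [3]) +
        (1 + z + z ^ 2) * (1 + z ^ 3) * Φ (cs.wordProd [3, 2, 1, 2, 3]) +
        (1 + z) * (1 + z ^ 2) * (1 + z ^ 3) * Φ (cs.wordProd [3, 2, 1, 2, 0, 1, 2, 3]) +
        Φ (cs.wordProd [3, 2, 1, 2, 0, 1, 2, 3, 2, 1, 2, 0, 1, 2, 3])) := by
  have h1 : ∀ ω ∈ LL D3, ∀ j ∈ [(0 : Fin 4), 1, 2], nn (act ω (ee j)) = true := by decide +kernel
  have h2 : ∀ d ∈ D3, ∀ x ∈ d.2, ∀ i ∈ x, i ∈ [(0 : Fin 4), 1, 2] := by decide +kernel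
  rw [sum_dc cs D3 (by decide +kernel) (fun d hd x hx i hi => by simpa using h2 d hd x hx i hi) (by decide +kernel)
    (fun ω hω => isMinR_of cs fun j hj => h1 ω hω j (by simpa using hj)) (by rw [(cards cs).2.1]; decide +kernel)
    hL hR, sum_012]
  simp only [D3, Lb, List.map_cons, List.map_nil, List.sum_cons, List.sum_nil, List.length_cons, List.length_nil]
  ring

end

theorem n4 (l m a b c d : ℂ) :
    N4 l m l m 0 ![a, b, c, d] = ![m * a - l * m * b, l * b, l * c, l * d] ∧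
    N4 l m l m 1 ![a, b, c, d] = ![l * a, a + m * b - 2 * l * m * c, l * c, l * d] ∧
    N4 l m l m 2 ![a, b, c, d] = ![l * a, l * b, b + m * c - l * m * d, l * d] ∧
    N4 l m l m 3 ![a, b, c, d] = ![l * a, l * b, l * c, c + m * d] := by
  obtain ⟨h0, h1, h2, h3⟩ := ff_eqs (l := l) (m := m) (l' := l) (m' := m) ![a, b, c, d]
  refine ⟨?_, ?_, ?_, ?_⟩ <;> rw [N4_apply] <;> first | rw [h0] | rw [h1] | rw [h2] | rw [h3]
  all_goals
    funext j
    fin_cases j <;> simp [lam4, e4]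
    ring_nf

section

variable {W Y : Type*} [Group W] [Finite W] [Group Y] [Finite Y]
  {cs : CoxeterSystem CoxeterMatrix.F₄ W} {A : Fin 4 → Fin 4 → ℤ} {h : IsCartan CoxeterMatrix.F₄ A} {p : ℕ}
  {T : Subgroup Y} {n : Fin 4 → Y} {X : (Fin 4 → ℤ) → Subgroup Y} {q : ℕ} (R : RGD cs h p T n X)

include R

/-- **The reflection module and its twist by the sign.** -/
theorem deg_V (hG : GG cs h T X = ⊤) (hq : ∀ i, Nat.card (X (sr i)) = q) {l m z : ℂ} (hl : l = -(z * m))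
    (ht : (q : ℂ) * z * m ^ 2 = 1) (hz : 1 + z ^ 3 ≠ 0) (hN : HMod CoxeterMatrix.F₄ (fun _ => q) (N4 l m l m))
    (hirr : ∀ S : Submodule ℂ (Fin 4 → ℂ), (∀ i, ∀ v ∈ S, N4 l m l m i v ∈ S) → S = ⊥ ∨ S = ⊤) :
    2 * (finrank ℂ (Fs cs h T n X (fun _ => q) (N4 l m l m)) : ℂ) *
        ((1 + z) ^ 2 * (1 + z + z ^ 2) ^ 2 * (1 + z ^ 2) * (1 + z ^ 6)) =
      z * ((1 + q) ^ 2 * (1 + q + q ^ 2) ^ 2 * (1 + q ^ 2) * (1 + q ^ 6)) * ((1 + q ^ 3) ^ 2 * (1 + q ^ 4)) := by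
  obtain ⟨v, hv⟩ : ∃ v : Fin 4 → ℂ,
    v = ![-2 * z ^ 3 * m ^ 3, 2 * z ^ 2 * m ^ 2 * (1 + z), -z * m * (1 + z + z ^ 2), 1 + z ^ 3] := ⟨_, rfl⟩
  have key := degree_formula R hG hq hN hirr (LinearMap.proj 3) (LinearMap.proj 3) v v
  have n0 := fun a b c d => (n4 l m a b c d).1
  have n1 := fun a b c d => (n4 l m a b c d).2.1
  have n2 := fun a b c d => (n4 l m a b c d).2.2.1
  have n3 := fun a b c d => (n4 l m a b c d).2.2.2
  have hη : ∀ k ∈ ({0, 1, 2} : Set (Fin 4)), ∀ x, N4 l m l m k x 3 = l * x 3 := by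
    intro k hk x
    rw [N4_apply]
    rcases hk with rfl | rfl | rfl <;> simp [lam4, e4]
  have hu : ∀ k ∈ ({0, 1, 2} : Set (Fin 4)), N4 l m l m k v = l • v := by
    intro k hk
    rcases hk with rfl | rfl | rfl
    all_goals
      rw [hv]
      simp only [n0, n1, n2, Matrix.smul_cons, Matrix.smul_empty, smul_eq_mul, Matrix.vecCons_inj, and_true, true_and]
      rw [hl]
      ring
  have hsum := sum_dc012 cs (z := z) (Φ := fun w => (q : ℂ) ^ cs.length w *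
    (aw cs (N4 l m l m) w v 3 * aw cs (N4 l m l m) w⁻¹ v 3))
    (fun k hk w hw => by
      have e1 := cs.length_simple_mul w k
      rw [aw_mul cs hN hw, aw_inv_mul cs hN hw, show cs.length (cs.simple k * w) = cs.length w + 1 by omega,
        Module.End.mul_apply, Module.End.mul_apply, hη k hk, hu k hk, map_smul, Pi.smul_apply, smul_eq_mul]
      generalize aw cs (N4 l m l m) w v 3 = a
      generalize aw cs (N4 l m l m) w⁻¹ v 3 = b
      rw [hl]
      linear_combination (z * (q : ℂ) ^ cs.length w * (a * b)) * ht)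
    (fun k hk w hw => by
      have e1 := cs.length_mul_simple w k
      rw [aw_mul' cs hN hw, aw_inv_mul' cs hN hw, show cs.length (w * cs.simple k) = cs.length w + 1 by omega,
        Module.End.mul_apply, Module.End.mul_apply, hη k hk, hu k hk, map_smul, Pi.smul_apply, smul_eq_mul]
      generalize aw cs (N4 l m l m) w v 3 = a
      generalize aw cs (N4 l m l m) w⁻¹ v 3 = b
      rw [hl]
      linear_combination (z * (q : ℂ) ^ cs.length w * (a * b)) * ht)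
  have hval : ∀ (ω : List (Fin 4)) (c : ℂ), isRed ω = true → code ω.reverse = code ω →
      (ω.map (N4 l m l m)).prod v 3 = c → (q : ℂ) ^ cs.length (cs.wordProd ω) *
        (aw cs (N4 l m l m) (cs.wordProd ω) v 3 * aw cs (N4 l m l m) (cs.wordProd ω)⁻¹ v 3) =
        (q : ℂ) ^ ω.length * (c * c) := by
    intro ω c e1 e2 e4
    have e3 := isReduced_of cs e1
    rw [← cs.wordProd_reverse, eq_of_code cs e2, aw_eq cs hN e3, e3.eq, e4]
  beta_reduce at hsum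
  rw [hval _ (1 + z ^ 3) rfl rfl (by rw [hv]; rfl),
    hval _ (m * (1 - z - z ^ 2)) (by decide +kernel) (by decide +kernel) ?_,
    hval _ (z ^ 2 * m ^ 5 * (1 - z ^ 3)) (by decide +kernel) (by decide +kernel) ?_,
    hval _ (z ^ 4 * m ^ 8 * (z ^ 2 - z - 1)) (by decide +kernel) (by decide +kernel) ?_,
    hval _ (z ^ 9 * m ^ 15 * (1 + z ^ 3)) (by decide +kernel) (by decide +kernel) ?_] at hsum
  · simp only [List.length_cons, List.length_nil] at hsum
    simp only [LinearMap.proj_apply] at key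
    rw [hsum, sum_len, show v 3 = 1 + z ^ 3 by rw [hv]; rfl] at key
    have h5 : ((q : ℂ) * z * m ^ 2) ^ 5 = 1 := by rw [ht, one_pow]
    have h8 : ((q : ℂ) * z * m ^ 2) ^ 8 = 1 := by rw [ht, one_pow]
    have h15 : ((q : ℂ) * z * m ^ 2) ^ 15 = 1 := by rw [ht, one_pow]
    refine mul_left_cancel₀ (pow_ne_zero 2 hz) ?_
    generalize (finrank ℂ (Fs cs h T n X (fun _ => q) (N4 l m l m)) : ℂ) = D at key ⊢
    linear_combination z * key - D * ((1 + z) ^ 2 * (1 + z + z ^ 2) * (1 + z ^ 2) * (1 + z ^ 3)) *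
      ((1 + z) * (1 + z ^ 2) * (1 + z ^ 3) * (1 - z - z ^ 2) ^ 2 * ht +
        (1 + z + z ^ 2) * (1 + z ^ 3) * (1 - z ^ 3) ^ 2 * h5 +
        (1 + z) * (1 + z ^ 2) * (1 + z ^ 3) * z * (z ^ 2 - z - 1) ^ 2 * h8 + z ^ 4 * (1 + z ^ 3) ^ 2 * h15)
  all_goals
    rw [hv]
    simp only [List.map_cons, List.map_nil, List.prod_cons, List.prod_nil, mul_one, Module.End.mul_apply, n0, n1, n2,
      n3, Matrix.cons_val]
    try rw [hl]
    ring

theorem chars (hG : GG cs h T X = ⊤) (hq : ∀ i, Nat.card (X (sr i)) = q) (hq2 : 2 ≤ q) (k : Fin 12) :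
    ∃ χ : IrrCharacter Y, mm3 (fun K => mn (PJ cs h T X K) χ) 0 1 3 = ((mv k : ℤ) : ℂ) ∧
      mm3 (fun K => mn (PJ cs h T X K) χ) 3 2 0 = ((mv' k : ℤ) : ℂ) ∧
      mn (PJ cs h T X ∅) χ = ((dv k : ℤ) : ℂ) ∧ mn (PJ cs h T X {0}) χ = ((kl k : ℤ) : ℂ) ∧
      mn (PJ cs h T X {3}) χ = ((ks k : ℤ) : ℂ) ∧ ∃ D : ℕ, (χ : Y → ℂ) 1 = D ∧
        (k ≠ 0 → k ≠ 3 → k < 8 → ((q : ℤ) ^ 2 - q + 1) ^ 2 ∣ 8 * (D : ℤ)) := by
  have hr := q_rr hq2
  have h0 : ((1 + q) ^ 2 * (1 + q + q ^ 2) ^ 2 * (1 + q ^ 2) * (1 + q ^ 6) : ℂ) ≠ 0 := by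
    norm_cast
    positivity
  by_cases h4 : k = 4
  · subst h4
    obtain ⟨χ, e1, e2, e3, e4, e5, e6⟩ := of_MdN R hG hq (md_pp' hq2)
    obtain ⟨hN, -, hirr, -⟩ := md_pp' hq2
    have e7 := deg_V R hG hq (z := q) (by linear_combination -hr) (by linear_combination ((q : ℂ) * rr q + 1) * hr)
      (by norm_cast; positivity) hN hirr
    refine ⟨χ, e1, e2, e3, e4, e5, _, e6, fun _ _ _ => ⟨4 * q * (1 + q) ^ 2 * (1 + q ^ 4), ?_⟩⟩
    apply Int.cast_injective (α := ℂ)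
    push_cast
    refine mul_right_cancel₀ h0 ?_
    linear_combination 4 * e7
  by_cases h7 : k = 7
  · subst h7
    obtain ⟨χ, e1, e2, e3, e4, e5, e6⟩ := of_MdN R hG hq (md_mm' hq2)
    obtain ⟨hN, -, hirr, -⟩ := md_mm' hq2
    have e7 := deg_V R hG hq (z := rr q) (by ring) (by linear_combination hr)
      (rr_ne hq2 (x := fun r => 1 + r ^ 3) (fun _ _ => by positivity) (by rw [rr]; push_cast; rfl)) hN hirr
    refine ⟨χ, e1, e2, e3, e4, e5, _, e6, fun _ _ _ => ⟨4 * q ^ 13 * (1 + q) ^ 2 * (1 + q ^ 4), ?_⟩⟩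
    apply Int.cast_injective (α := ℂ)
    push_cast
    refine mul_right_cancel₀ h0 ?_
    have hq0 : (q : ℂ) ≠ 0 := left_ne_zero_of_mul_eq_one hr
    rw [eq_inv_of_mul_eq_one_right hr] at e7 ⊢
    field_simp at e7
    linear_combination 4 * e7
  obtain ⟨χ, e1, e2, e3, e4, e5, D, e6, e7, e8⟩ := exists_chars R hG hq hq2 k
  refine ⟨χ, e1, e2, e3, e4, e5, D, e6, fun a b c => ?_⟩
  rcases (by omega : (k = 1 ∨ k = 2) ∨ (k = 5 ∨ k = 6)) with e | e
  · rw [e7 e, polyL]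
    exact ((dvd_mul_left _ _).mul_right _).mul_right _
  · rw [show (8 * D : ℤ) = 2 * (4 * D) by ring, e8 e, polyR]
    exact (((dvd_mul_left _ _).mul_right _).mul_right _).mul_left _

end

/-- **The constituents of `1_B^G` with two non-zero elliptic values.** -/
theorem p2 {W Y : Type*} [Group W] [Finite W] [Group Y] [Fintype Y] {cs : CoxeterSystem CoxeterMatrix.F₄ W}
    {A : Fin 4 → Fin 4 → ℤ} {h : IsCartan CoxeterMatrix.F₄ A} {p : ℕ} {T : Subgroup Y} {n : Fin 4 → Y}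
    {X : (Fin 4 → ℤ) → Subgroup Y} {q : ℕ} (R : RGD cs h p T n X) (hG : GG cs h T X = ⊤)
    (hq : ∀ i, Nat.card (X (sr i)) = q) (hq2 : 2 ≤ q) {χ : Y → ℂ} (hχ : IsIrrCharacter Y χ) {φ : W → ℂ}
    (hφ : IsIrrCharacter W φ) (hc : HC.Cor cs h T X χ φ) (h1 : φ (cs.wordProd [0, 1, 3]) ≠ 0)
    (h2 : φ (cs.wordProd [0, 2, 3]) ≠ 0) : (χ = fun _ => 1) ∨ (φ 1 = 1 ∧ ∀ i, φ (cs.simple i) = -1) ∨
      ∃ D : ℕ, χ 1 = D ∧ ((q : ℤ) ^ 2 - q + 1) ^ 2 ∣ 8 * (D : ℤ) := by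
  classical
  have : Finite (IrrCharacter Y) := finite_irr
  have := Fintype.ofFinite (IrrCharacter Y)
  obtain ⟨m, m', d, hm1, hm2, hd1, hd0, g1, g2, g3, g4, g5⟩ := gram_F4 R hG
  choose η c1 c2 c3 c4 c5 D c6 c7 using chars R hG hq hq2
  have e1 : ∀ k, m (η k) = mv k := fun k => by exact_mod_cast (hm1 (η k)).trans (c1 k)
  have e2 : ∀ k, m' (η k) = mv' k := fun k => by exact_mod_cast (hm2 (η k)).trans (c2 k)
  have e3 : ∀ k, d (η k) = dv k := fun k => by exact_mod_cast (hd1 (η k)).trans (c3 k)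
  have hinj : Function.Injective η := fun k k' e =>
    (by decide : ∀ k k' : Fin 12, mv k = mv k' → mv' k = mv' k' → dv k = dv k' → k = k') k k'
      (by rw [← e1, ← e1, e]) (by rw [← e2, ← e2, e]) (by rw [← e3, ← e3, e])
  have hsum : ∀ f : IrrCharacter Y → ℤ, ∑ i ∈ Finset.univ.image η, f i = ∑ k, f (η k) := fun f =>
    Finset.sum_image fun a _ b _ e => hinj e
  have hcl := isIrr_isClassFunction hφ
  have hmn : (fun K => mn (PJ cs h T X K) χ) = fun K => mn (WJ cs K) φ := funext hc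
  have f1 : m ⟨χ, hχ⟩ ≠ 0 := fun e => h1 (by
    rw [← w1, ← mm3_w1 cs hcl, ← hmn]; exact (hm1 ⟨χ, hχ⟩).symm.trans (by rw [e, Int.cast_zero]))
  have f2 : m' ⟨χ, hχ⟩ ≠ 0 := fun e => h2 (by
    rw [← w2, ← mm3_w2 cs hcl, ← hmn]; exact (hm2 ⟨χ, hχ⟩).symm.trans (by rw [e, Int.cast_zero]))
  have f3 : mn (PJ cs h T X ∅) χ = φ 1 := by rw [PJ_emp R]; exact hc.mu_B R hφ
  have f4 : 0 < d ⟨χ, hχ⟩ := (hd0 _).lt_of_ne fun e => isIrr_apply_one_ne_zero hφ (by
    rw [← f3]; exact (hd1 ⟨χ, hχ⟩).symm.trans (by rw [← e, Int.cast_zero]))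
  obtain ⟨k, -, hk⟩ := Finset.mem_image.1 (arith m m' d hd0 g1 g2 g3 g4 g5 (Finset.univ.image η)
    (by rw [hsum]; simp only [e1]; decide) (by rw [hsum]; simp only [e2]; decide)
    (by rw [hsum]; simp only [e1, e2]; decide) (by rw [hsum]; simp only [e1, e3]; decide)
    (by rw [hsum]; simp only [e2, e3]; decide) ⟨χ, hχ⟩ f1 f2 f4)
  have hk' : (η k : Y → ℂ) = χ := congrArg Subtype.val hk
  have a1 := c3 k
  have a2 := c4 k
  have a3 := c5 k
  rw [hk'] at a1 a2 a3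
  rw [f3] at a1
  rw [congrFun hmn, mn_WJ' cs [0] (by simp) [[], [0]] (by simp) (by simp) (by decide +kernel) (by decide +kernel)] at a2
  rw [congrFun hmn, mn_WJ' cs [3] (by simp) [[], [3]] (by simp) (by simp) (by decide +kernel) (by decide +kernel)] at a3
  have b1 := conj_of_code cs hcl [0, 1] [0] [1] (by decide +kernel)
  have b2 := conj_of_code cs hcl [3, 2] [3] [2] (by decide +kernel)
  simp only [List.map_cons, List.map_nil, List.sum_cons, List.sum_nil, List.length_cons, List.length_nil,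
    cs.wordProd_nil, cs.wordProd_singleton] at a2 a3 b1 b2
  have b3 : ∀ c : ℂ, φ (cs.simple 0) = c → φ (cs.simple 3) = c → ∀ i, φ (cs.simple i) = c := fun c u v i => by
    fin_cases i
    exacts [u, b1.trans u, b2.trans v, v]
  by_cases k0 : k = 0
  · subst k0
    simp only [dv, kl, ks, Matrix.cons_val_zero] at a1 a2 a3
    push_cast at a1 a2 a3
    have b4 := b3 1 (by linear_combination 2 * a2 - a1) (by linear_combination 2 * a3 - a1)
    obtain ⟨f, rfl⟩ := Characters.Linear.exists_hom_of_isIrrCharacter hφ a1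
    rw [cs.ext_simple (φ₁ := f) (φ₂ := 1) fun i => Units.ext (b4 i)] at hc
    exact Or.inl (HC.Cor.eq_one R hG hχ hc)
  by_cases k3 : k = 3
  · subst k3
    simp only [dv, kl, ks, Matrix.cons_val] at a1 a2 a3
    push_cast at a1 a2 a3
    exact Or.inr (Or.inl ⟨a1, b3 _ (by linear_combination 2 * a2 - a1) (by linear_combination 2 * a3 - a1)⟩)
  exact Or.inr (Or.inr ⟨D k, hk' ▸ c6 k, c7 k k0 k3 ((by decide : ∀ k : Fin 12, mv k ≠ 0 → mv' k ≠ 0 → k < 8) k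
    (by rw [← e1, hk]; exact f1) (by rw [← e2, hk]; exact f2))⟩)

end Cfsg.Agent.VAN.F
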