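import Cfsg.Agent.VAN.F.GThree
import Cfsg.Agent.VAN.F.PTwo
import Cfsg.Agent.VAN.Iface
import Cfsg.Agent.H320.OZ.F4In
import Cfsg.Agent.S1062
import Cfsg.Agent.S1035

/-!
# S4942, row `F₄(q)`, `q ≥ 3`: assembly (helper5)

The three elements: elliptic elements of `L_{013}` and `L_{023}`, and an element of order divisible by `p` and by a
primitive prime divisor of `q⁶ - 1`.  `Thr` is the degree formula for the torus characters of order three.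
-/

set_option autoImplicit false

namespace Cfsg.Agent.VAN.F

open Cfsg CoxeterSystem Cfsg.Agent.ChevalleyStructure.CoxeterGeom Cfsg.Agent.Tits.Roots Cfsg.Agent.Tits.Core
  Cfsg.Agent.Tits.Exchange Cfsg.Agent.Nodes.Reps Cfsg.Agent.Nodes.BNOf Cfsg.Agent.Nodes.StabComb
  Cfsg.Agent.Nodes.Bruhat Cfsg.Agent.Nodes.OppDec Cfsg.Agent.Nodes.LeviDec Cfsg.Agent.H985.VZ Cfsg.Agent.H650.OZ
  Cfsg.Agent.H650.OZ.FF Module

universe u

/-- the torus characters seen by both elliptic elements (first half of `H650.OZ.FF.eq_one_or`) -/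
theorem one_or_three {W : Type*} {Y : Type u} [Group W] [Group Y] {M : CoxeterMatrix (Fin 4)} {cs : CoxeterSystem M W}
    {T : Subgroup Y} {n : Fin 4 → Y} {hN : NSys M T n} {E : Type*} [CommGroup E] {hh : Fin 4 → E →* T} [Finite W]
    (C : TCo AF T n hh) (h : IsCartan M AF) {l₁ l₂ : T →* ℂˣ} (h₁ : NP cs hN {0, 1, 3} l₁) (h₂ : NP cs hN {0, 2, 3} l₂)
    {w : W} (hw : Mv cs hN w l₁ l₂) : l₁ = 1 ∨ ∃ c : Additive (E →* ℂˣ), c ≠ 0 ∧ (3 : ℤ) • c = 0 ∧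
      co hh l₁ = fun i => (![0, 0, 1, 0] : Fin 4 → ℤ) i • c := by
  obtain ⟨a0, a1, a3⟩ := triv_A C h h₁
  obtain ⟨b0, b2, b3⟩ := triv_B C h h₂
  have e1 : co hh l₁ = fun i => (![0, 0, 1, 0] : Fin 4 → ℤ) i • co hh l₁ 2 := by
    funext i
    fin_cases i
    · simpa using a0
    · simpa using a1
    · simp
    · simpa using a3
  by_cases hc0 : co hh l₁ 2 = 0
  · exact Or.inl (eq_one_of_co C fun i => by
      rw [congrFun e1 i, hc0]
      exact zsmul_zero (α := Additive (E →* ℂˣ)) _)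
  refine Or.inr ⟨_, hc0, ?_, e1⟩
  obtain ⟨ν, hν, e2⟩ := exists_orb (h := h) C OO (fun μ hμ j => by
    obtain ⟨ν, hν, e⟩ := List.any_eq_true.1 (List.all_eq_true.1 (List.all_eq_true.1 OO_clo μ hμ) j (mem_I4 j))
    exact ⟨ν, hν, fun i => by rw [eqV_iff.1 e]⟩) w (List.mem_cons_self ..) e1 hw
  obtain ⟨t, -, e⟩ := List.any_eq_true.1 (List.all_eq_true.1 OO_cert ν hν)
  exact three_of (G := Additive (E →* ℂˣ)) (beq_iff_eq.1 e) ((congrFun e2 0).symm.trans b0)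
    ((congrFun e2 2).symm.trans b2) ((congrFun e2 3).symm.trans b3)

variable {W : Type*} {Y : Type u} [Group W] [Group Y] {cs : CoxeterSystem CoxeterMatrix.F₄ W} {A : Fin 4 → Fin 4 → ℤ}
  {h : IsCartan CoxeterMatrix.F₄ A} {p : ℕ} {T : Subgroup Y} {n : Fin 4 → Y} {X : (Fin 4 → ℤ) → Subgroup Y}
  {E : Type*} [CommGroup E] {hh : Fin 4 → E →* T}

variable (cs h X hh) in
/-- the degrees above the torus characters of order three -/
def Thr (q : ℕ) : Prop :=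
  ∀ (k : ℕ) (ρ : Representation ℂ Y (Fin k → ℂ)), ρ.IsIrreducible → ∀ l : T →* ℂˣ, Vl cs h T X ρ l ≠ ⊥ →
    ∀ c : Additive (E →* ℂˣ), c ≠ 0 → (3 : ℤ) • c = 0 → (co hh l = fun i => (![0, 0, 1, 0] : Fin 4 → ℤ) i • c) →
      ∃ m d : ℕ, m ∣ (2 * q ^ 3 * (1 + q) * (1 + q + q ^ 2)) ^ 2 ∧
        ρ.character 1 * ((m * Nat.card (RGD.B cs h T X) : ℕ) : ℂ) = ((q ^ 6 * Nat.card Y * d : ℕ) : ℂ)

theorem van3_rgd [Finite W] [Finite Y] (R : RGD cs h p T n X) (hA : A = AF) (C : TCo A T n hh) (hG : GG cs h T X = ⊤)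
    (hT : ∀ s ∈ T, ∀ t ∈ T, s * t = t * s) (hp : p.Prime) {q : ℕ} (hpq : p ∣ q) (hq3 : 3 ≤ q)
    (hq : ∀ i, Nat.card (X (sr i)) = q) (hc : Nat.card T = (q - 1) ^ 4)
    (hY : Nat.card Y = q ^ 24 * (q ^ 2 - 1) * (q ^ 6 - 1) * (q ^ 8 - 1) * (q ^ 12 - 1))
    {t t' : Y} (ht : Ell cs h T X {0, 1, 3} t) (ht' : Ell cs h T X {0, 2, 3} t') (h3 : Thr cs h X hh q) : Van3 Y := by
  classical
  have := Fintype.ofFinite Y
  have : Fact p.Prime := ⟨hp⟩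
  obtain ⟨r, hr, hr2, hrq, hr3, hrm⟩ := exists_r hq3
  have hrp : r ≠ p := fun e => hrq (e ▸ hpq)
  have hz := Nat.prime_iff_prime_int.1 hr
  have k2 : ¬ (r : ℤ) ∣ 2 := fun e => hr2 ((Nat.prime_dvd_prime_iff_eq hr Nat.prime_two).1 (by exact_mod_cast e))
  have kq : ¬ (r : ℤ) ∣ q := fun e => hrq (by exact_mod_cast e)
  have k1 : ¬ (r : ℤ) ∣ 1 + q := fun e => hrm 2 (by omega) (e.trans ⟨q - 1, by ring⟩)
  have k3 : ¬ (r : ℤ) ∣ 1 + q + q ^ 2 := fun e => hrm 3 (by omega) (e.trans ⟨q - 1, by ring⟩)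
  obtain ⟨g, hgp, hgr⟩ := exists_g R (hA.trans rfl) hq hp hr hrp hr2 hr3
  refine ⟨t, t', g, ?_⟩
  rintro _ ⟨k, ρ, hρ, rfl⟩ h1
  have hχ : IsIrrCharacter Y ρ.character := ⟨k, ρ, hρ, rfl⟩
  by_contra hcon
  push Not at hcon
  obtain ⟨c1, c2, c3⟩ := hcon
  apply c3
  have h0 := H631.VZ.VU_F4 R hG hρ ht c1 ht' c2
  obtain ⟨l₁, hl₁, hn₁⟩ := exists_fix_J R hG hT hρ h0 ht c1
  obtain ⟨l₂, hl₂, hn₂⟩ := exists_fix_J R hG hT hρ h0 ht' c2
  obtain ⟨w, hw⟩ := exists_mv R hG hρ hl₁ hl₂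
  subst hA
  rcases one_or_three C h hn₁ hn₂ hw with rfl | ⟨c, hc0, hc3, hco⟩
  · rw [Vl_one R] at hl₁
    obtain ⟨φ, hφ, hc⟩ := HC.exists_cor R hG hχ (by
      rw [HC.Deg.mu_char]
      exact_mod_cast fun e => hl₁ (Submodule.finrank_eq_zero.1 e))
    have key : ∀ a b c, ((H589.FF.WF.mm3 (fun K => (finrank ℂ (fx ρ (PJ cs h T X K)) : ℤ)) a b c : ℤ) : ℂ) =
        H589.FF.WF.mm3 (fun K => H589.FF.WF.mn (WJ cs K) φ) a b c := fun a b c => by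
      rw [← eq_intCast (Int.castRingHom ℂ), H589.FF.mm3_map]
      congr 1
      funext K
      rw [eq_intCast, Int.cast_natCast, ← HC.Deg.mu_char]
      exact hc K
    have hcl : ∀ g x : W, φ (x * g * x⁻¹) = φ g := by
      obtain ⟨_, σ, -, rfl⟩ := hφ
      exact fun g x => σ.char_conj g x
    rw [H320.OZ.F4In.char_A21 R (a := 0) (b := 1) (c := 3) rfl rfl rfl hG hρ hl₁ ht, key,
      H589.FF.WF.mm3_w1 cs hcl] at c1
    rw [H320.OZ.F4In.char_A21 R (a := 3) (b := 2) (c := 0) rfl rfl rfl hG hρ hl₁ (by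
      convert ht' using 1
      ext i
      revert i
      decide), key, H589.FF.WF.mm3_w2 cs hcl] at c2
    rcases p2 R hG hq (by omega) hχ hφ hc c1 c2 with e | ⟨e1, e2⟩ | ⟨D, hD, e, he⟩
    · exact absurd e h1
    · exact HC.val_sgn R hG hχ hφ hc e1 e2 hgp
    have hs : ∀ m, ((q ^ m - 1 : ℕ) : ℤ) = (q : ℤ) ^ m - 1 := fun m => by
      rw [Nat.cast_sub (Nat.one_le_pow _ _ (by omega)), Nat.cast_pow, Nat.cast_one]
    refine zero_of_deg hr hχ hD (d := e) (m := 2 ^ 3 * (q ^ 24 * ((q ^ 2 - 1) * (((q ^ 3 - 1) * (1 + q)) ^ 2 *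
      ((q ^ 8 - 1) * (q ^ 6 + 1)))))) ?_ ?_ hgr
    · have k6 : ¬ (r : ℤ) ∣ q ^ 6 + 1 := fun e => k2 (by
        have h5 : (r : ℤ) ∣ q ^ 3 + 1 := by exact_mod_cast hr3
        have h6 := dvd_sub e (h5.mul_left (q ^ 3 - 1))
        rwa [show (q : ℤ) ^ 6 + 1 - (q ^ 3 - 1) * (q ^ 3 + 1) = 2 by ring] at h6)
      simp only [hz.dvd_mul, hz.dvd_pow_iff_dvd (by norm_num : 3 ≠ 0), hz.dvd_pow_iff_dvd (by norm_num : 24 ≠ 0),
        hz.dvd_pow_iff_dvd (by norm_num : 2 ≠ 0), not_or]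
      exact ⟨k2, kq, hrm 2 (by omega), ⟨hrm 3 (by omega), k1⟩, hrm 8 (by omega), k6⟩
    · rw [hY]
      simp only [Nat.cast_mul, hs, Nat.cast_pow]
      linear_combination (q ^ 24 * ((q ^ 2 - 1) * (((q ^ 3 - 1) * (1 + q)) ^ 2 * ((q ^ 8 - 1) * (q ^ 6 + 1)))) : ℤ) * he
  · obtain ⟨m, d, hm, e⟩ := h3 k ρ hρ l₁ hl₁ c hc0 hc3 hco
    rw [Representation.char_one, ← Nat.cast_mul, Nat.cast_inj] at e
    refine zero_of_deg hr hχ (Representation.char_one ρ) (m := (m * Nat.card (RGD.B cs h T X) : ℕ))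
      (d := (q ^ 6 * d : ℕ)) ?_ (by rw [← Nat.cast_mul, e]; push_cast; ring) hgr
    obtain ⟨v, hv⟩ := IsPGroup.iff_card.1 R.isPGroup_Upos
    rw [H35.Poin.card_B' R, hv, hc, Int.natCast_dvd_natCast, hr.dvd_mul, hr.dvd_mul]
    rintro (e | e | e)
    · have h5 := Int.natCast_dvd_natCast.2 (hr.dvd_of_dvd_pow (e.trans hm))
      push_cast at h5
      simp only [hz.dvd_mul, hz.dvd_pow_iff_dvd (by norm_num : 3 ≠ 0)] at h5
      tauto
    · exact hrp ((Nat.prime_dvd_prime_iff_eq hr hp).1 (hr.dvd_of_dvd_pow e))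
    · refine hrm 1 (by omega) ?_
      have h5 := Int.natCast_dvd_natCast.2 (hr.dvd_of_dvd_pow e)
      rwa [Nat.cast_sub (by omega), Nat.cast_one, ← pow_one (q : ℤ)] at h5

open Cfsg.Lie Cfsg.Lie.ChevalleyDatum Cfsg.Agent.ChevalleyStructure Cfsg.Agent.ChevalleyStructure.Elts
  Cfsg.Agent.ChevalleyStructure.CoxeterGeomTypes Cfsg.Agent.ChevalleyStructure.NPerm Cfsg.Agent.Nodes
  Cfsg.Agent.Nodes.RGDChev Cfsg.Agent.KFacts.RgdField Cfsg.Agent.KFacts.RgdChevCoord Cfsg.Agent.BpExc.TorCent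
  Cfsg.Agent.BpExc.TorChev Cfsg.Agent.H129.TorusChar Cfsg.Agent.H631.VZ Cfsg.Agent.GenExc.Chev in
/-- **`F₄(q)`, `q ≥ 3`** -/
theorem van3_of_thr {F : Type} [Field F] [Fintype F] (hq3 : 3 ≤ Fintype.card F)
    (h3 : Thr CoxeterMatrix.F₄.toCoxeterSystem isType_F4.isCartan (XX chevF4 4 F) (H631.VZ.hh (K := F) isType_F4)
      (Fintype.card F)) : Van3 ↥(chevF4.group F) := by
  obtain ⟨p, hp⟩ := CharP.exists F
  obtain ⟨a, hpp, ha⟩ := FiniteField.card F p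
  have : Fact p.Prime := ⟨hpp⟩
  have := finite_W isType_F4 CoxeterMatrix.F₄.toCoxeterSystem
  obtain ⟨t, ht⟩ := H798.OZ.elt_013 CoxeterMatrix.F₄.toCoxeterSystem (F := F) rfl (by omega)
  obtain ⟨t', ht'⟩ := H798.OZ.elt_023 CoxeterMatrix.F₄.toCoxeterSystem (F := F) rfl (by omega)
  refine van3_rgd (rgd (K := F) isType_F4 CoxeterMatrix.F₄.toCoxeterSystem p) cartan_F4 (tco isType_F4 p)
    (KFacts.RgdRigid.GG_eq_top (T := TT chevF4 F) (G1_eq_top isType_F4 _)) (fun s hs t ht => cX_inj isType_F4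
      (mul_mem hs ht) (mul_mem ht hs) fun i => by rw [cX_mul isType_F4 hs ht, cX_mul isType_F4 ht hs, mul_comm]) hpp
    (ha ▸ dvd_pow_self p a.ne_zero) hq3
    (fun i => ClosedExc.Chev.card_XX isType_F4 F CoxeterMatrix.F₄.toCoxeterSystem (isRoot_sr _ _ i)) ?_
    (S1062.result rfl) ht ht' h3
  rw [Nat.card_congr (Subgroup.subgroupOfEquivOfLe (diagonal_le_group isType_F4.inList F)).toEquiv]
  exact (one_mul _).symm.trans (S1035.result (F := F) rfl (chevF4, 1) (by simp))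

end Cfsg.Agent.VAN.F
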