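import Cfsg.Agent.H134.StrP.Tab
import Cfsg.Agent.H874.SNX.RootsF
import Cfsg.Agent.Mrg.ParSys.Fam.Rgd
import Cfsg.Agent.H732.VZ.Close
import Cfsg.Agent.Lib.Zsigmondy

/-!
# S4942, row `F₄(q)`: the third element (helper5)

* `exists_mixed` : an element of order divisible by `p` and `r` from the action on a `p`-group;
* `exists_g` : such an element for `r ∣ q³ + 1` in type `F₄`;
* `zero_of_deg` : characters of `r`-defect zero; `exists_r` : the prime.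
-/

set_option autoImplicit false

namespace Cfsg.Agent.VAN.F

open Cfsg CoxeterSystem Cfsg.Agent.ChevalleyStructure.CoxeterGeom Cfsg.Agent.Tits.Roots Cfsg.Agent.Tits.Core
  Cfsg.Agent.Nodes.Reps Cfsg.Agent.Nodes.BNOf Cfsg.Agent.Nodes.StabComb Cfsg.Agent.Nodes.Bruhat
  Cfsg.Agent.Nodes.OppDec Cfsg.Agent.Nodes.LeviDec Cfsg.Agent.H134.StrP Cfsg.Agent.H874.SNX

universe u

theorem exists_mixed {G : Type*} [Group G] [Finite G] {p r : ℕ} (hp : p.Prime) (hr : r.Prime) (hpr : r ≠ p)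
    {P V : Subgroup G} (hn : P ≤ Subgroup.normalizer (V : Set G)) (hV : IsPGroup p V) (h1 : r ∣ Nat.card P)
    (h2 : ¬ Nat.card V ≡ 1 [MOD r]) : ∃ g : G, p ∣ orderOf g ∧ r ∣ orderOf g := by
  classical
  have : Fact r.Prime := ⟨hr⟩
  have := Fintype.ofFinite V
  obtain ⟨x, hx⟩ := exists_prime_orderOf_dvd_card' r h1
  rw [← Subgroup.orderOf_coe] at hx
  let f : Function.End V := fun v => ⟨x * v * (x : G)⁻¹, (Subgroup.mem_normalizer_iff.1 (hn x.2) v).1 v.2⟩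
  have h3 : ∀ n : ℕ, ∀ v, ((f ^ n) v : G) = (x : G) ^ n * v * ((x : G) ^ n)⁻¹ := fun n => by
    induction n with
    | zero => intro v; simp; rfl
    | succ n ih =>
      intro v
      rw [pow_succ', pow_succ']
      show x * ((f ^ n) v : G) * (x : G)⁻¹ = _
      rw [ih]
      group
  have h4 := Equiv.Perm.card_fixedPoints_modEq (f := f) (p := r) (n := 1) (funext fun v =>
    Subtype.ext (by rw [h3, pow_one, ← hx, pow_orderOf_eq_one]; simp; rfl))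
  obtain ⟨u, hu, hu1⟩ : ∃ u : V, f u = u ∧ u ≠ 1 := by
    by_contra hc
    push Not at hc
    apply h2
    have h5 : Fintype.card f.fixedPoints = 1 :=
      Fintype.card_eq_one_iff.2 ⟨⟨1, Subtype.ext (by simp [f])⟩, fun y => Subtype.ext (hc _ y.2)⟩
    rwa [← Nat.card_eq_fintype_card, h5] at h4
  have hc : Commute (x : G) u := mul_inv_eq_iff_eq_mul.1 (congrArg Subtype.val hu)
  obtain ⟨k, hk⟩ := hV u
  obtain ⟨k, -, hk⟩ := (Nat.dvd_prime_pow hp).1 (orderOf_dvd_of_pow_eq_one hk)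
  have h5 : k ≠ 0 := by
    rintro rfl
    exact hu1 (orderOf_eq_one_iff.1 hk)
  rw [← Subgroup.orderOf_coe] at hk
  have h6 := hc.orderOf_mul_eq_mul_orderOf_of_coprime (by
    rw [hx, hk]
    exact ((Nat.coprime_primes hr hp).2 hpr).pow_right k)
  rw [hx, hk] at h6
  exact ⟨x * u, h6 ▸ (dvd_pow_self p h5).mul_left r, h6 ▸ Dvd.intro _ rfl⟩

theorem tab_012 : Tab A4 [0, 1, 2] 0 [(![1, 0, 0, 0], 0), (![-1, 1, 0, 0], 1), (![0, -1, 2, 0], 2), (![0, 1, -2, 2], 3),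
    (![1, -1, 0, 2], 4), (![-1, 0, 0, 2], 5)] := Tab.of_check (by decide +kernel)

theorem exists_g {W Y : Type*} [Group W] [Finite W] [Group Y] [Finite Y] {cs : CoxeterSystem CoxeterMatrix.F₄ W}
    {A : Fin 4 → Fin 4 → ℤ} {h : IsCartan CoxeterMatrix.F₄ A} {p : ℕ} {T : Subgroup Y} {n : Fin 4 → Y}
    {X : (Fin 4 → ℤ) → Subgroup Y} (R : RGD cs h p T n X) (hA : A = A4) {q r : ℕ} (hq : ∀ i, Nat.card (X (sr i)) = q)
    (hp : p.Prime) (hr : r.Prime) (hpr : r ≠ p) (h2 : r ≠ 2) (h3 : r ∣ q ^ 3 + 1) :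
    ∃ g : Y, p ∣ orderOf g ∧ r ∣ orderOf g := by
  classical
  subst hA
  refine exists_mixed hp hr hpr (PJ_le_normalizer_VJ R {j | j ∈ [0, 1, 2]}) (R.isPGroup_Upos.to_le (VJ_le_U _)) ?_ ?_
  · rw [card_PJ_tab R tab_012 fun i _ => hq i]
    refine (h3.trans ⟨1 + q + q ^ 2, ?_⟩).mul_right _
    simp only [List.map_cons, List.map_nil, List.sum_cons, List.sum_nil]
    ring
  · have e : ({j | j ∈ [0, 1, 2]} : Set (Fin 4)) = {3}ᶜ := by
      ext j
      revert j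
      decide
    have e' : (LF.toFinset.filter fun v => 0 < v 3).card = 15 := by decide +kernel
    rw [e, Omega.EH3Close.CountU.card_VJ_single R posRoots (wt := fun _ => q) (fun _ _ _ _ => rfl) hq 3,
      Finset.prod_const, e']
    intro h4
    have h5 : r ∣ q ^ 15 + 1 := h3.trans (by
      have := Odd.nat_add_dvd_pow_add_pow (q ^ 3) 1 (n := 5) (by decide)
      rwa [← pow_mul, one_pow] at this)
    exact h2 ((Nat.prime_dvd_prime_iff_eq hr Nat.prime_two).1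
      ((Nat.modEq_zero_iff_dvd).1 ((h4.add_right 1).symm.trans ((Nat.modEq_zero_iff_dvd).2 h5))))

/-- characters of defect zero -/
theorem zero_of_deg {G : Type u} [Group G] [Finite G] {r : ℕ} (hr : r.Prime) {χ : G → ℂ} (hχ : IsIrrCharacter G χ)
    {D : ℕ} (hD : χ 1 = D) {m d : ℤ} (hm : ¬ (r : ℤ) ∣ m) (h : D * m = Nat.card G * d) {g : G} (hg : r ∣ orderOf g) :
    χ g = 0 := by
  obtain ⟨a, k, hk, e⟩ := Nat.exists_eq_pow_mul_and_not_dvd (Nat.card_pos (α := G)).ne' r hr.ne_one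
  refine H732.VZ.zero_of_defect hr e hk ⟨χ, hχ⟩ ?_ hg
  have h1 : charDegree χ = D := by simp [charDegree, hD]
  have h2 : ((r : ℤ) ^ a) ∣ D * m := ⟨k * d, by rw [h, e]; push_cast; ring⟩
  have h3 := (Nat.prime_iff_prime_int.1 hr).pow_dvd_of_dvd_mul_right a hm h2
  exact h1 ▸ Int.natCast_dvd_natCast.1 (by exact_mod_cast h3)

/-- a primitive prime divisor of `q⁶ - 1` -/
theorem exists_r {q : ℕ} (hq : 3 ≤ q) : ∃ r : ℕ, r.Prime ∧ r ≠ 2 ∧ ¬ r ∣ q ∧ r ∣ q ^ 3 + 1 ∧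
    ∀ m, ¬ 6 ∣ m → ¬ (r : ℤ) ∣ (q : ℤ) ^ m - 1 := by
  obtain ⟨r, hr, h1, h2, h3⟩ := Lib.Zsigmondy.exists_primitive (a := q) (n := 6) (by omega) (by omega) (by omega) (by omega)
  have h4 : ∀ m, (r : ℤ) ∣ (q : ℤ) ^ m - 1 ↔ 6 ∣ m := fun m => by
    rw [← h1, ← Int.natCast_dvd_natCast, Nat.cast_sub (Nat.one_le_pow _ _ (by omega)), Nat.cast_pow, Nat.cast_one]
  refine ⟨r, hr, ?_, h3, ?_, fun m hm h => hm ((h4 m).1 h)⟩
  · rintro rfl
    omega
  · have h5 := (h4 6).2 dvd_rfl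
    rw [show (q : ℤ) ^ 6 - 1 = (q ^ 3 - 1) * (q ^ 3 + 1) by ring, (Nat.prime_iff_prime_int.1 hr).dvd_mul, h4] at h5
    exact_mod_cast h5.resolve_left (by omega)

end Cfsg.Agent.VAN.F
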