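import Cfsg.Agent.H985.VZ.GTwo
import Cfsg.Agent.VAN.F.ATwo

/-!
# S4942: the operators `p g p` on the spaces `V_l` (helper82)

* `aa l l' g`  : `v ↦ p_(l') g v`;  `Cp c u w` : the product formula;  `cp_add`, `Mov.cp` : the two cases which are needed;
* `NQ l w`     : `q ^ ℓ(w) p g p g⁻¹ p`;  `schur_sum` : their sum is a scalar which gives the degree;
* `NQ_mul`, `NQ_conj`, `NQ_a2` : products of commuting elements, conjugation, a parabolic subgroup of type `A₂`.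
-/

set_option autoImplicit false
set_option linter.unusedSectionVars false

open Cfsg

namespace Cfsg.Agent.VAN.F

open CoxeterSystem Cfsg.Agent.ChevalleyStructure.CoxeterGeom Cfsg.Agent.Tits.Roots Cfsg.Agent.Tits.Core
  Cfsg.Agent.Tits.Exchange Cfsg.Agent.Nodes.Reps Cfsg.Agent.Nodes.BNOf Cfsg.Agent.Nodes.StabComb
  Cfsg.Agent.Nodes.Bruhat Cfsg.Agent.Nodes.OppDec Cfsg.Agent.Nodes.LeviDec Module Cfsg.Agent.H985.VZ

universe u v

variable {I W : Type*} {Y : Type u} [Fintype I] [DecidableEq I] [Group W] [Group Y] {M : CoxeterMatrix I}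
  {cs : CoxeterSystem M W} {A : I → I → ℤ} {h : IsCartan M A} {p : ℕ} {T : Subgroup Y} {n : I → Y}
  {X : (I → ℤ) → Subgroup Y} (R : RGD cs h p T n X) [Finite W] [Finite Y] {V : Type v} [AddCommGroup V]
  [Module ℂ V] (ρ : Representation ℂ Y V)

/-- `v ↦ p_(l') g v` -/
noncomputable def aa (l l' : T →* ℂˣ) (g : Y) : Vl cs h T X ρ l →ₗ[ℂ] Vl cs h T X ρ l' :=
  LinearMap.codRestrict _ ((el ρ (RGD.B cs h T X) (lamB R l') * ρ g) ∘ₗ (Vl cs h T X ρ l).subtype)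
    fun _ => el_mem_Vl R l' _

theorem aa_apply (l l' : T →* ℂˣ) (g : Y) (v : Vl cs h T X ρ l) :
    (aa R ρ l l' g v : V) = el ρ (RGD.B cs h T X) (lamB R l') (ρ g v) := rfl

theorem aa_B_mul (l l' : T →* ℂˣ) {b : Y} (hb : b ∈ RGD.B cs h T X) (g : Y) :
    aa R ρ l l' (b * g) = (lamB R l' ⟨b, hb⟩ : ℂ) • aa R ρ l l' g := by
  ext v
  rw [LinearMap.smul_apply, Submodule.coe_smul, aa_apply, aa_apply, map_mul, Module.End.mul_apply]
  exact el_rho ρ _ _ ⟨b, hb⟩ _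

theorem aa_mul_B (l l' : T →* ℂˣ) (g : Y) {b : Y} (hb : b ∈ RGD.B cs h T X) :
    aa R ρ l l' (g * b) = (lamB R l ⟨b, hb⟩ : ℂ) • aa R ρ l l' g := by
  ext v
  have h1 : ρ b v = (lamB R l ⟨b, hb⟩ : ℂ) • (v : V) := ((Vl_eq R l).le v.2) ⟨b, hb⟩
  rw [LinearMap.smul_apply, Submodule.coe_smul, aa_apply, aa_apply, map_mul, Module.End.mul_apply, h1, map_smul, map_smul]

theorem aa_T_mul (l l' : T →* ℂˣ) {t : Y} (ht : t ∈ T) (g : Y) :
    aa R ρ l l' (t * g) = (l' ⟨t, ht⟩ : ℂ) • aa R ρ l l' g := by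
  rw [aa_B_mul R ρ l l' (RGD.T_le_B ht), lamB_T R l' ht]

theorem aa_mul_T (l l' : T →* ℂˣ) (g : Y) {t : Y} (ht : t ∈ T) :
    aa R ρ l l' (g * t) = (l ⟨t, ht⟩ : ℂ) • aa R ρ l l' g := by
  rw [aa_mul_B R ρ l l' g (RGD.T_le_B ht), lamB_T R l ht]

theorem aa_one (l : T →* ℂˣ) : aa R ρ l l 1 = LinearMap.id := by
  ext v
  rw [aa_apply, map_one, Module.End.one_apply, el_of_Vl R v.2, LinearMap.id_apply]

theorem aa_zero {l l' : T →* ℂˣ} {w : W} {g : Y} (hg : Rp cs R.nsys w g) (hm : ¬ Mv cs R.nsys w l l') :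
    aa R ρ l l' g = 0 := by
  ext v
  rw [aa_apply, el_rho_eq_zero R hg hm v.2, LinearMap.zero_apply, Submodule.coe_zero]

/-- the product formula -/
def Cp (c : ℂ) (u w : W) (l l' l'' : T →* ℂˣ) : Prop :=
  ∀ k g, Rp cs R.nsys u k → Rp cs R.nsys w g → aa R ρ l' l'' k ∘ₗ aa R ρ l l' g = c • aa R ρ l l'' (k * g)

variable {R ρ} in
theorem Cp.of_one {c : ℂ} {u w : W} {l l' l'' : T →* ℂˣ} (hm : Mv cs R.nsys w l l') {k g : Y} (hk : Rp cs R.nsys u k)
    (hg : Rp cs R.nsys w g) (e : aa R ρ l' l'' k ∘ₗ aa R ρ l l' g = c • aa R ρ l l'' (k * g)) :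
    Cp R ρ c u w l l' l'' := by
  intro k' g' hk' hg'
  obtain ⟨s, hs, rfl⟩ : ∃ s ∈ T, k' = k * s := ⟨_, hk.unique hk', by group⟩
  obtain ⟨t, ht, rfl⟩ : ∃ t ∈ T, g' = g * t := ⟨_, hg.unique hg', by group⟩
  have h3 : g⁻¹ * s * g ∈ T := by
    have := (Subgroup.mem_normalizer_iff.1 (inv_mem hg.mem_normalizer) s).1 hs
    rwa [inv_inv] at this
  rw [show k * s * (g * t) = k * g * (g⁻¹ * s * g) * t by group, aa_mul_T R ρ l l'' _ ht, aa_mul_T R ρ l l'' _ h3,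
    aa_mul_T R ρ l' l'' _ hs, aa_mul_T R ρ l l' _ ht, LinearMap.smul_comp, LinearMap.comp_smul, e,
    hm g hg ⟨s, hs⟩ ⟨_, h3⟩ (by change s = g * (g⁻¹ * s * g) * g⁻¹; group)]
  module

theorem cp_one {w : W} {l l' : T →* ℂˣ} (hm : Mv cs R.nsys w l l') : Cp R ρ 1 1 w l l' l' := by
  obtain ⟨g, hg⟩ := exists_rp cs R.nsys w
  exact Cp.of_one hm rp_one hg (by rw [aa_one, LinearMap.id_comp, one_mul, one_smul])

theorem cp_up {i : I} {w : W} {l l' l'' : T →* ℂˣ} (hl : cs.length w < cs.length (cs.simple i * w))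
    (hm : Mv cs R.nsys w l l') (hm' : Mv cs R.nsys (cs.simple i) l' l'') : Cp R ρ 1 (cs.simple i) w l l' l'' := by
  obtain ⟨g, hg⟩ := exists_rp cs R.nsys w
  refine Cp.of_one hm (rp_simple cs R.nsys i) hg ?_
  ext v
  have h0 : 0 ≤ rep cs h w⁻¹ (sr i) := nonneg_of_lt cs h _ i (by
    rwa [cs.length_inv, ← cs.length_inv (_ * cs.simple i), mul_inv_rev, inv_inv, cs.inv_simple])
  rw [one_smul, LinearMap.comp_apply, aa_apply, aa_apply, aa_apply,
    el_n R hm' (rho_fx_X R hg (isRoot_sr cs h i) h0 v.2.1), map_mul, Module.End.mul_apply]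

theorem cp_down {i : I} {w : W} {l l' l'' : T →* ℂˣ} (hl : cs.length (cs.simple i * w) < cs.length w)
    (hm : Mv cs R.nsys w l l') (hm' : Mv cs R.nsys (cs.simple i) l' l'') (hne : l' ≠ l'') :
    Cp R ρ (qq X i : ℂ)⁻¹ (cs.simple i) w l l' l'' := by
  obtain ⟨g, hg⟩ := exists_rp cs R.nsys (cs.simple i * w)
  have h1 : Mv cs R.nsys (cs.simple i) l'' l' := by simpa only [cs.inv_simple] using hm'.inv
  have h2 := cp_up R ρ (by rwa [cs.simple_mul_simple_cancel_left]) (hm.mul hm') h1 _ _ (rp_simple cs R.nsys i) hg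
  have h3 : Rp cs R.nsys w (n i * g) := by
    simpa only [cs.simple_mul_simple_cancel_left] using (rp_simple cs R.nsys i).mul hg
  have h4 : Rp cs R.nsys (cs.simple i) (n i)⁻¹ := by simpa only [cs.inv_simple] using (rp_simple cs R.nsys i).inv
  refine Cp.of_one hm h4 h3 ?_
  rw [one_smul] at h2
  rw [← h2, inv_mul_cancel_left]
  ext v
  exact el_n_inv R h1 hne.symm (aa R ρ l l'' g v).2

variable {R ρ} in
theorem Cp.cons {c c' : ℂ} {i : I} {u w : W} {l l' l'' l₃ : T →* ℂˣ} (h1 : Cp R ρ c u w l l' l'')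
    (h2 : Cp R ρ c' (cs.simple i) (u * w) l l'' l₃) (hl : cs.length u < cs.length (cs.simple i * u))
    (hw : Mv cs R.nsys w l l') (hu : Mv cs R.nsys u l' l'') (hi : Mv cs R.nsys (cs.simple i) l'' l₃) :
    Cp R ρ (c * c') (cs.simple i * u) w l l' l₃ := by
  obtain ⟨k, hk⟩ := exists_rp cs R.nsys u
  obtain ⟨g, hg⟩ := exists_rp cs R.nsys w
  have h3 := cp_up R ρ hl hu hi _ _ (rp_simple cs R.nsys i) hk
  rw [one_smul] at h3
  refine Cp.of_one hw ((rp_simple cs R.nsys i).mul hk) hg ?_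
  rw [← h3, LinearMap.comp_assoc, h1 _ _ hk hg, LinearMap.comp_smul, h2 _ _ (rp_simple cs R.nsys i) (hk.mul hg), smul_smul,
    mul_assoc]

theorem cp_add {u w : W} {l l' l'' : T →* ℂˣ} (hl : cs.length (u * w) = cs.length u + cs.length w)
    (hw : Mv cs R.nsys w l l') (hu : Mv cs R.nsys u l' l'') : Cp R ρ 1 u w l l' l'' := by
  obtain ⟨ω, hω, rfl⟩ := cs.exists_isReduced u
  induction ω generalizing l'' with
  | nil =>
    rw [cs.wordProd_nil] at hu ⊢
    rw [← (mv_one l').unique hu]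
    exact cp_one R ρ hw
  | cons i ω ih =>
    have h2 : cs.IsReduced ω := by simpa using hω.drop 1
    have h3 := hω.eq
    have h4 := h2.eq
    rw [cs.wordProd_cons] at hl hu h3 ⊢
    rw [List.length_cons] at h3
    have h5 := cs.length_simple_mul (cs.wordProd ω * w) i
    have h6 := cs.length_mul_le (cs.wordProd ω) w
    rw [mul_assoc] at hl
    obtain ⟨l₂, hl₂⟩ := exists_mv_to (cs := cs) (hN := R.nsys) (cs.wordProd ω) l'
    obtain ⟨l₃, hl₃⟩ := exists_mv_to (cs := cs) (hN := R.nsys) (cs.simple i) l₂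
    rw [hu.unique (hl₂.mul hl₃)]
    simpa only [mul_one] using
      (ih h2 (by omega) hl₂).cons (cp_up R ρ (by omega) (hw.mul hl₂) hl₃) (by omega) hw hl₂ hl₃

theorem aa_add {u w : W} {l l' l'' : T →* ℂˣ} (hl : cs.length (u * w) = cs.length u + cs.length w)
    (hw : Mv cs R.nsys w l l') (hu : Mv cs R.nsys u l' l'') {k g : Y} (hk : Rp cs R.nsys u k) (hg : Rp cs R.nsys w g) :
    aa R ρ l l'' (k * g) = aa R ρ l' l'' k ∘ₗ aa R ρ l l' g := by
  rw [cp_add R ρ hl hw hu k g hk hg, one_smul]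

/-- a reduced word all of whose letters move the character -/
inductive Mov (l : T →* ℂˣ) : List I → (T →* ℂˣ) → Prop
  | nil : Mov l [] l
  | cons {i : I} {ω : List I} {l' l'' : T →* ℂˣ} : Mov l ω l' → Mv cs R.nsys (cs.simple i) l' l'' → l' ≠ l'' →
      cs.length (cs.wordProd ω) < cs.length (cs.simple i * cs.wordProd ω) → Mov l (i :: ω) l''

variable {R} in
theorem Mov.mv {ω : List I} {l l' : T →* ℂˣ} (H : Mov R l ω l') : Mv cs R.nsys (cs.wordProd ω) l l' := by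
  induction H with
  | nil => rw [cs.wordProd_nil]; exact mv_one l
  | cons _ h2 _ _ ih => rw [cs.wordProd_cons]; exact ih.mul h2

variable {R} in
theorem Mov.cp {q : ℕ} (hq : ∀ i, qq X i = q) {ω : List I} {w : W} {l l' l'' : T →* ℂˣ} (H : Mov R l' ω l'')
    (hw : Mv cs R.nsys w l l') : ∃ d : ℕ, Cp R ρ ((q : ℂ)⁻¹ ^ d) (cs.wordProd ω) w l l' l'' ∧
      cs.length (cs.wordProd ω * w) + 2 * d = cs.length (cs.wordProd ω) + cs.length w := by
  induction H with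
  | nil =>
    rw [cs.wordProd_nil]
    exact ⟨0, by rw [pow_zero]; exact cp_one R ρ hw, by simp⟩
  | @cons i ω l₂ l₃ h1 h2 h3 h4 ih =>
    obtain ⟨d, h5, h6⟩ := ih
    have h7 := cs.length_simple_mul (cs.wordProd ω) i
    rw [cs.wordProd_cons, mul_assoc]
    rcases cs.length_simple_mul (cs.wordProd ω * w) i with h8 | h8
    · exact ⟨d, by simpa only [mul_one] using h5.cons (cp_up R ρ (by omega) (hw.mul h1.mv) h2) h4 hw h1.mv h2, by omega⟩
    · refine ⟨d + 1, ?_, by omega⟩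
      rw [pow_succ, ← hq i]
      rw [← hq i] at h5
      exact h5.cons (cp_down R ρ (by omega) (hw.mul h1.mv) h2 h3) h4 hw h1.mv h2

variable {R ρ} in
theorem Mov.ne {ω : List I} {l l' : T →* ℂˣ} (H : Mov R l ω l') {v : Vl cs h T X ρ l} (hv : v ≠ 0) :
    ∃ k, Rp cs R.nsys (cs.wordProd ω) k ∧ aa R ρ l l' k v ≠ 0 := by
  induction H with
  | nil => exact ⟨1, by rw [cs.wordProd_nil]; exact rp_one, by rwa [aa_one]⟩
  | @cons i ω l₂ l₃ h1 h2 h3 h4 ih =>
    obtain ⟨k, hk, h5⟩ := ih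
    have h6 := cp_up R ρ h4 h1.mv h2 _ _ (rp_simple cs R.nsys i) hk
    rw [one_smul] at h6
    refine ⟨n i * k, by rw [cs.wordProd_cons]; exact (rp_simple cs R.nsys i).mul hk, fun h7 => ?_⟩
    rw [← h6] at h7
    exact el_n_ne R h2 h3 (aa R ρ l l₂ k v).2 (fun e => h5 (Subtype.ext e)) (congrArg Subtype.val h7)

/-- `q ^ ℓ(w) p g p g⁻¹ p` -/
noncomputable def NQ (q : ℕ) (l : T →* ℂˣ) (w : W) : Module.End ℂ (Vl cs h T X ρ l) :=
  (q : ℂ) ^ cs.length w • (aa R ρ l l (exists_rp cs R.nsys w).choose ∘ₗ aa R ρ l l (exists_rp cs R.nsys w).choose⁻¹)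

theorem aa_cell (l : T →* ℂˣ) {b b' : Y} (hb : b ∈ RGD.B cs h T X) (hb' : b' ∈ RGD.B cs h T X) (g : Y) :
    aa R ρ l l (b * g * b') ∘ₗ aa R ρ l l (b * g * b')⁻¹ = aa R ρ l l g ∘ₗ aa R ρ l l g⁻¹ := by
  rw [mul_inv_rev, mul_inv_rev, aa_mul_B R ρ _ _ _ hb', aa_B_mul R ρ _ _ hb, aa_B_mul R ρ _ _ (inv_mem hb'),
    aa_mul_B R ρ _ _ _ (inv_mem hb)]
  have h1 : ∀ {b : Y} (hb : b ∈ RGD.B cs h T X), (lamB R l ⟨b⁻¹, inv_mem hb⟩ : ℂ) = (lamB R l ⟨b, hb⟩ : ℂ)⁻¹ :=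
    fun {b} hb => by rw [← Units.val_inv_eq_inv_val, ← map_inv]; rfl
  simp only [LinearMap.smul_comp, LinearMap.comp_smul, smul_smul, h1 hb, h1 hb']
  rw [show ∀ x y : ℂˣ, (y : ℂ)⁻¹ * (x : ℂ)⁻¹ * (y * x) = 1 from fun x y => by
    have := x.ne_zero
    have := y.ne_zero
    field_simp, one_smul]

theorem NQ_eq (q : ℕ) (l : T →* ℂˣ) {w : W} {g : Y} (hg : Rp cs R.nsys w g) :
    NQ R ρ q l w = (q : ℂ) ^ cs.length w • (aa R ρ l l g ∘ₗ aa R ρ l l g⁻¹) := by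
  have h1 := aa_cell R ρ l (one_mem _) (RGD.T_le_B (hg.unique (exists_rp cs R.nsys w).choose_spec)) g
  rw [one_mul, mul_inv_cancel_left] at h1
  rw [NQ, h1]

theorem NQ_zero (q : ℕ) {l : T →* ℂˣ} {w : W} (hm : ¬ Mv cs R.nsys w l l) : NQ R ρ q l w = 0 := by
  rw [NQ, aa_zero R ρ (exists_rp cs R.nsys w).choose_spec hm, LinearMap.zero_comp, smul_zero]

theorem card_cell {q : ℕ} (hq : ∀ i, qq X i = q) (w : W) :
    Nat.card {g : Y // Cell R.nsys cs h X w g} = q ^ cs.length w * Nat.card (RGD.B cs h T X) := by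
  obtain ⟨ω, hω, rfl⟩ := cs.exists_isReduced w
  induction ω with
  | nil => rw [cs.wordProd_nil, cs.length_one, pow_zero, one_mul, card_cell_one R]
  | cons i ω ih =>
    have h2 : cs.IsReduced ω := by simpa using hω.drop 1
    have h3 := hω.eq
    have h4 := h2.eq
    rw [cs.wordProd_cons] at h3 ⊢
    rw [List.length_cons] at h3
    rw [card_cell_simple R (by omega), ih h2, hq, h3, h4, pow_succ', mul_assoc]

/-- **the Schur relation** -/
theorem schur_sum [FiniteDimensional ℂ V] [Fintype W] (hG : GG cs h T X = ⊤) (hρ : ρ.IsIrreducible) {q : ℕ}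
    (hq : ∀ i, qq X i = q) (l : T →* ℂˣ) : ∃ d : ℂ, ∑ w, NQ R ρ q l w = d • 1 ∧
      ρ.character 1 * (d * Nat.card (RGD.B cs h T X)) = Nat.card Y * finrank ℂ (Vl cs h T X ρ l) := by
  classical
  let _ : Fintype Y := Fintype.ofFinite Y
  have hB0 : (Nat.card (RGD.B cs h T X) : ℂ) ≠ 0 := card_ne _
  have hYc : ∀ g : Y, ∃ w, Cell R.nsys cs h X w g := fun g => (mem_GG R).1 (by rw [hG]; exact Subgroup.mem_top g)
  choose wd hwd using hYc
  have hsum : ∑ g : Y, aa R ρ l l g ∘ₗ aa R ρ l l g⁻¹ = (Nat.card (RGD.B cs h T X) : ℂ) • ∑ w, NQ R ρ q l w := by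
    rw [← Finset.sum_fiberwise Finset.univ wd, Finset.smul_sum]
    refine Finset.sum_congr rfl fun w _ => ?_
    obtain ⟨k, hk⟩ := exists_rp cs R.nsys w
    have h1 : ∀ g ∈ Finset.univ.filter (fun g => wd g = w),
        aa R ρ l l g ∘ₗ aa R ρ l l g⁻¹ = aa R ρ l l k ∘ₗ aa R ρ l l k⁻¹ := by
      intro g hg
      obtain ⟨b, hb, k', hk', b', hb', rfl⟩ := (Finset.mem_filter.1 hg).2 ▸ hwd g
      rw [show b * k' * b' = b * k * (k⁻¹ * k' * b') by group,
        aa_cell R ρ l hb (mul_mem (RGD.T_le_B (hk.unique hk')) hb')]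
    have h2 : (Finset.univ.filter fun g => wd g = w).card = q ^ cs.length w * Nat.card (RGD.B cs h T X) := by
      rw [← card_cell R hq, Nat.card_eq_fintype_card, Fintype.card_subtype]
      congr 1
      ext g
      simp only [Finset.mem_filter, Finset.mem_univ, true_and]
      exact ⟨fun h2 => h2 ▸ hwd g, fun h2 => Cell.unique R (hwd g) h2⟩
    rw [Finset.sum_congr rfl h1, Finset.sum_const, h2, NQ_eq R ρ q l hk, smul_smul, ← Nat.cast_smul_eq_nsmul ℂ, Nat.cast_mul,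
      Nat.cast_pow, mul_comm]
  obtain ⟨d, hd⟩ := schur hρ (f := RkOne.ss ρ (RGD.B cs h T X) (lamB R l)) fun g v => RkOne.ss_comm g v
  have h1 : RkOne.ss ρ (RGD.B cs h T X) (lamB R l) = d • 1 := LinearMap.ext fun v => hd v
  have h2 := RkOne.trace_ss (ρ := ρ) (B := RGD.B cs h T X) (l := lamB R l)
  have h3 : LinearMap.trace ℂ V 1 = ρ.character 1 := by
    change _ = LinearMap.trace ℂ V (ρ 1)
    rw [show ρ 1 = 1 from map_one ρ]
  rw [← Vl_eq R, h1, map_smul, smul_eq_mul, h3] at h2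
  refine ⟨d, ?_, ?_⟩
  · refine smul_right_injective _ hB0 ?_
    simp only []
    rw [← hsum]
    ext v
    have h5 : el ρ (RGD.B cs h T X) (lamB R l) (RkOne.ss ρ (RGD.B cs h T X) (lamB R l) v) = d • (v : V) := by
      rw [hd v, map_smul, el_of_Vl R v.2]
    unfold RkOne.ss at h5
    rw [finsum_eq_sum_of_fintype, LinearMap.smul_apply, LinearMap.sum_apply, map_smul, map_sum] at h5
    rw [LinearMap.smul_apply, LinearMap.smul_apply, Module.End.one_apply, Submodule.coe_smul, Submodule.coe_smul, ← h5,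
      smul_inv_smul₀ hB0, LinearMap.sum_apply, Submodule.coe_sum]
    rfl
  · field_simp at h2
    linear_combination h2

theorem NQ_mul (q : ℕ) {l : T →* ℂˣ} {u w : W} (hu : Mv cs R.nsys u l l) (hw : Mv cs R.nsys w l l) (hc : u * w = w * u)
    (h1 : cs.length (u * w) = cs.length u + cs.length w) (h2 : cs.length (u * w⁻¹) = cs.length u + cs.length w) :
    NQ R ρ q l (u * w) = NQ R ρ q l w * NQ R ρ q l u := by
  obtain ⟨k, hk⟩ := exists_rp cs R.nsys u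
  obtain ⟨g, hg⟩ := exists_rp cs R.nsys w
  have h3 : Rp cs R.nsys u (g⁻¹ * k * g) := by
    have := (hg.inv.mul hk).mul hg
    rwa [mul_assoc, hc, inv_mul_cancel_left] at this
  have hc' : w⁻¹ * u = u * w⁻¹ := by rw [inv_mul_eq_iff_eq_mul, ← mul_assoc, ← hc, mul_inv_cancel_right]
  have e1 := aa_add R ρ (u := w⁻¹) (w := u⁻¹) (by
    rw [← mul_inv_rev, cs.length_inv, cs.length_inv, cs.length_inv, h1, add_comm]) hu.inv hw.inv hg.inv hk.inv
  have e2 := aa_add R ρ (u := w) (w := u) (by rw [← hc, h1, add_comm]) hu hw hg h3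
  have e3 := aa_add R ρ (u := u) (w := w⁻¹) (by rw [h2, cs.length_inv]) hw.inv hu h3 hg.inv
  have e4 := aa_add R ρ (u := w⁻¹) (w := u) (by rw [hc', h2, cs.length_inv, add_comm]) hu hw.inv hg.inv hk
  rw [show g * (g⁻¹ * k * g) = k * g by group] at e2
  rw [mul_inv_cancel_right, e4] at e3
  rw [NQ_eq R ρ q l (hk.mul hg), NQ_eq R ρ q l hk, NQ_eq R ρ q l hg, mul_inv_rev, e1, e2, h1, smul_mul_smul_comm, pow_add, mul_comm,
    Module.End.mul_eq_comp]
  simp only [LinearMap.comp_assoc]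
  rw [← LinearMap.comp_assoc (aa R ρ l l k⁻¹), ← e3, LinearMap.comp_assoc]

theorem NQ_conj {q : ℕ} (hq : ∀ i, qq X i = q) (hq0 : q ≠ 0) {ω : List I} {l l' : T →* ℂˣ} (H : Mov R l ω l') {w : W}
    (hw : Mv cs R.nsys w l' l') (h1 : cs.length (w * cs.wordProd ω) = cs.length w + cs.length (cs.wordProd ω))
    (h2 : cs.length (w⁻¹ * cs.wordProd ω) = cs.length w + cs.length (cs.wordProd ω)) {k : Y}
    (hk : Rp cs R.nsys (cs.wordProd ω) k) :
    aa R ρ l l' k ∘ₗ NQ R ρ q l ((cs.wordProd ω)⁻¹ * w * cs.wordProd ω) = NQ R ρ q l' w ∘ₗ aa R ρ l l' k := by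
  obtain ⟨g, hg⟩ := exists_rp cs R.nsys w
  have h3 := (hk.inv.mul hg).mul hk
  have h4 : Mv cs R.nsys ((cs.wordProd ω)⁻¹ * w * cs.wordProd ω) l l := H.mv.mul (hw.mul H.mv.inv)
  obtain ⟨d, e1, f1⟩ := H.cp ρ hq h4
  obtain ⟨d', e2, f2⟩ := H.cp ρ hq h4.inv
  have e3 := e1 _ _ hk h3
  have e4 := e2 _ _ hk h3.inv
  rw [show cs.wordProd ω * ((cs.wordProd ω)⁻¹ * w * cs.wordProd ω) = w * cs.wordProd ω by group, h1] at f1
  rw [show cs.wordProd ω * ((cs.wordProd ω)⁻¹ * w * cs.wordProd ω)⁻¹ = w⁻¹ * cs.wordProd ω by group, h2,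
    cs.length_inv] at f2
  rw [show k * (k⁻¹ * g * k) = g * k by group, aa_add R ρ h1 H.mv hw hg hk] at e3
  rw [show k * (k⁻¹ * g * k)⁻¹ = g⁻¹ * k by group, aa_add R ρ (by rw [h2, cs.length_inv]) H.mv hw.inv hg.inv hk] at e4
  obtain rfl : d = d' := by omega
  rw [NQ_eq R ρ q l h3, NQ_eq R ρ q l' hg, LinearMap.comp_smul, LinearMap.smul_comp, ← LinearMap.comp_assoc, e3,
    LinearMap.smul_comp, LinearMap.comp_assoc, e4, LinearMap.comp_smul, smul_smul, smul_smul, LinearMap.comp_assoc,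
    show cs.length ((cs.wordProd ω)⁻¹ * w * cs.wordProd ω) = cs.length w + d + d by omega]
  congr 1
  have h5 : (q : ℂ) ≠ 0 := by exact_mod_cast hq0
  rw [pow_add, pow_add, inv_pow]
  field_simp

/-- the sum over a parabolic subgroup of type `A₂` -/
theorem NQ_a2 {q : ℕ} (hq : ∀ i, qq X i = q) (hq1 : 1 < q) {l : T →* ℂˣ} {i j : I} (hi : Mv cs R.nsys (cs.simple i) l l)
    (hj : Mv cs R.nsys (cs.simple j) l l) (ni : n i ∈ Li X i) (nj : n j ∈ Li X j) (ti : Triv X l i) (tj : Triv X l j)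
    (l1 : cs.length (cs.wordProd [i, j]) = 2) (l2 : cs.length (cs.wordProd [j, i]) = 2)
    (l3 : cs.length (cs.wordProd [i, j, i]) = 3) (hb : cs.wordProd [i, j, i] = cs.wordProd [j, i, j])
    {v : Vl cs h T X ρ l} (hv : v ≠ 0) {c : ℂ}
    (hc : (([[], [i], [j], [i, j], [j, i], [i, j, i]].map fun ω => NQ R ρ q l (cs.wordProd ω)).sum :
      Module.End ℂ (Vl cs h T X ρ l)) v = c • v) :
    ∃ m : ℕ, m ∣ 2 * q ^ 3 * (1 + q) * (1 + q + q ^ 2) ∧ q ^ 3 * c = m := by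
  have hq0 : (q : ℂ) ≠ 0 := by exact_mod_cast (by omega : q ≠ 0)
  have hinv : ∀ {i : I}, n i ∈ Li X i → Triv X l i → aa R ρ l l (n i)⁻¹ = aa R ρ l l (n i) := fun {i} ni ti => by
    have h1 := aa_mul_T R ρ l l (n i)⁻¹ (R.sq_mem_T i)
    rw [l_sq_triv R ni ti, inv_mul_cancel_left, Units.val_one, one_smul] at h1
    exact h1.symm
  have hsq : ∀ {i : I}, Mv cs R.nsys (cs.simple i) l l → n i ∈ Li X i → Triv X l i →
      ((q : ℂ) • aa R ρ l l (n i)) * ((q : ℂ) • aa R ρ l l (n i)) =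
        ((q : ℂ) - 1) • ((q : ℂ) • aa R ρ l l (n i)) + (q : ℂ) • (1 : Module.End ℂ (Vl cs h T X ρ l)) :=
    fun {i} hi ni ti => by
      ext v
      have h1 := Tq_sq (ρ := ρ) R hi v.2
      rw [Al_triv R hi ni ti, Be_eq R hi, l_sq_triv R ni ti, hq, Tq_apply R (Tq_mem R i l (v : V)), Tq_apply R v.2] at h1
      simp only [Module.End.mul_apply, LinearMap.smul_apply, map_smul, LinearMap.add_apply, Module.End.one_apply,
        Submodule.coe_smul, Submodule.coe_add, aa_apply, h1]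
      match_scalars <;> field_simp
  simp only [cs.wordProd_cons, cs.wordProd_nil, mul_one] at l1 l2 l3 hb
  have ri := rp_simple cs R.nsys i
  have rj := rp_simple cs R.nsys j
  have li := cs.length_simple i
  have lj := cs.length_simple j
  have a1 := aa_add R ρ (by omega) hj hi ri rj
  have a2 := aa_add R ρ (by omega) hi hj rj ri
  have a3 := aa_add R ρ (by omega) (hi.mul hj) hi ri (rj.mul ri)
  have a4 := aa_add R ρ (by rw [← hb]; omega) (hj.mul hi) hj rj (ri.mul rj)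
  have ri' : Rp cs R.nsys (cs.simple i) (n i)⁻¹ := by simpa only [cs.inv_simple] using ri.inv
  have rj' : Rp cs R.nsys (cs.simple j) (n j)⁻¹ := by simpa only [cs.inv_simple] using rj.inv
  have b1 := aa_add R ρ (by omega) hj hi ri' rj'
  have b2 := aa_add R ρ (by omega) hi hj rj' ri'
  have b3 := aa_add R ρ (by omega) (hi.mul hj) hi ri' (rj'.mul ri')
  rw [a2] at a3
  rw [a1] at a4
  rw [b2] at b3
  rw [hinv ni ti, hinv nj tj] at b1 b2 b3
  have ht := (hb ▸ rj.mul (ri.mul rj) : Rp cs R.nsys _ _).unique (ri.mul (rj.mul ri))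
  have a5 := aa_mul_T R ρ l l (n j * (n i * n j)) ht
  rw [mul_inv_cancel_left, a3, a4] at a5
  obtain ⟨x, hx⟩ : ∃ x : Module.End ℂ (Vl cs h T X ρ l), x = (q : ℂ) • aa R ρ l l (n i) := ⟨_, rfl⟩
  obtain ⟨y, hy⟩ : ∃ y : Module.End ℂ (Vl cs h T X ρ l), y = (q : ℂ) • aa R ρ l l (n j) := ⟨_, rfl⟩
  have hx2 := hx ▸ hsq hi ni ti
  have hy2 := hy ▸ hsq hj nj tj
  have a6 : x * y * x = (l ⟨_, ht⟩ : ℂ) • (y * x * y) := by
    simp only [hx, hy, Module.End.mul_eq_comp, LinearMap.smul_comp, LinearMap.comp_smul, LinearMap.comp_assoc, a5]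
    module
  rw [zeta_one hq1 rfl hx2 hy2 (Complex.norm_eq_one_of_pow_eq_one (n := Nat.card T) (by
    rw [← Units.val_pow_eq_pow_val, ← map_pow, pow_card_eq_one', map_one, Units.val_one]) Nat.card_pos.ne') a6 hv,
    one_smul] at a6
  have h1 : (1 : ℂ) + q ≠ 0 := by exact_mod_cast (by omega : 1 + q ≠ 0)
  have h2 := a2_eig h1 hx2 hy2 a6 hv (c := q ^ 3 * c) (by
    rw [mul_smul, ← hc, ← LinearMap.smul_apply]
    congr 1
    simp only [List.map_cons, List.map_nil, List.sum_cons, List.sum_nil, cs.wordProd_cons, cs.wordProd_nil, mul_one]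
    rw [NQ_eq R ρ q l rp_one, NQ_eq R ρ q l ri, NQ_eq R ρ q l rj, NQ_eq R ρ q l (ri.mul rj), NQ_eq R ρ q l (rj.mul ri),
      NQ_eq R ρ q l (ri.mul (rj.mul ri)), l1, l2, l3, li, lj, cs.length_one, inv_one, aa_one]
    simp only [mul_inv_rev, mul_assoc (n i)⁻¹]
    rw [a1, a2, a3, b1, b2, b3, hinv ni ti, hinv nj tj]
    simp only [hx, hy, Module.End.mul_eq_comp, LinearMap.smul_comp, LinearMap.comp_smul, LinearMap.comp_assoc,
      LinearMap.id_comp, Module.End.one_eq_id]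
    module)
  rcases h2 with h2 | h2 | h2
  · exact ⟨q ^ 3 * ((1 + q) * (1 + q + q ^ 2)), ⟨2, by ring⟩, by rw [h2]; push_cast; ring⟩
  · exact ⟨(1 + q) * (1 + q + q ^ 2), ⟨2 * q ^ 3, by ring⟩, by rw [h2]; push_cast; ring⟩
  · exact ⟨2 * q ^ 2 * (1 + q + q ^ 2), ⟨q * (1 + q), by ring⟩, by rw [h2]; push_cast; ring⟩

end Cfsg.Agent.VAN.F
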