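import Cfsg.Agent.VAN.F.Hk
import Cfsg.Agent.VAN.W.FFour
import Cfsg.Agent.H650.OZ.F4Comb
import Cfsg.Agent.H589.FF.Sum

/-!
# S4942, type `F₄`: the principal series of a character of order three with stabiliser `S₃ × S₃` (helper82)

* `three` : the degree `D` satisfies `D m |B| = q⁶ |G| d` with `m ∣ (2 q³ (1 + q) (1 + q + q²))²`.
-/

set_option autoImplicit false
set_option linter.unusedSectionVars false

open Cfsg

namespace Cfsg.Agent.VAN.F

open CoxeterSystem Cfsg.Agent.ChevalleyStructure.CoxeterGeom Cfsg.Agent.Tits.Roots Cfsg.Agent.Tits.Core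
  Cfsg.Agent.Tits.Exchange Cfsg.Agent.Nodes.Reps Cfsg.Agent.Nodes.BNOf Cfsg.Agent.Nodes.StabComb
  Cfsg.Agent.Nodes.Bruhat Cfsg.Agent.Nodes.OppDec Cfsg.Agent.Nodes.LeviDec Module Cfsg.Agent.H985.VZ
  Cfsg.Agent.H650.OZ
open Cfsg.Agent.H589.FF.WF (T4 vec code isRed nn ee eq_of_code code_of_eq isReduced_of lt_simple_mul)

universe u v

section Co

variable {I W : Type*} {Y : Type u} [Fintype I] [DecidableEq I] [Group W] [Group Y] {M : CoxeterMatrix I}
  {cs : CoxeterSystem M W} {A : I → I → ℤ} {T : Subgroup Y} {n : I → Y} {hN : NSys M T n}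
  {E : Type*} [CommGroup E] {hh : I → E →* T} (C : TCo A T n hh) (h : IsCartan M A)

include C h

theorem co_word (ω : List I) {l l' : T →* ℂˣ} (hm : Mv cs hN (cs.wordProd ω) l l') : co hh l' = actw A ω (co hh l) := by
  induction ω generalizing l' with
  | nil =>
    rw [wordProd_nil] at hm
    rw [← (mv_one l).unique hm, actw]
  | cons j ω ih =>
    obtain ⟨l₂, h2⟩ := exists_mv_to (cs := cs) (hN := hN) (cs.wordProd ω) l
    obtain ⟨l₃, h3⟩ := exists_mv_to (cs := cs) (hN := hN) (cs.simple j) l₂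
    rw [wordProd_cons] at hm
    rw [hm.unique (h2.mul h3), co_mv C h h3, ih h2, actw]

theorem mv_fix {i : I} {l : T →* ℂˣ} (h0 : co hh l i = 0) : Mv cs hN (cs.simple i) l l := by
  obtain ⟨l', h1⟩ := exists_mv_to (cs := cs) (hN := hN) (cs.simple i) l
  have h2 : l' = l := co_inj C (by
    rw [co_mv C h h1]
    funext k
    rw [act, h0]
    exact sub_eq_self.2 (zsmul_zero (α := Additive (E →* ℂˣ)) _))
  rwa [h2] at h1

omit C h in
theorem mv_word {l : T →* ℂˣ} {ω : List I} (h0 : ∀ i ∈ ω, Mv cs hN (cs.simple i) l l) : Mv cs hN (cs.wordProd ω) l l := by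
  induction ω with
  | nil => rw [wordProd_nil]; exact mv_one l
  | cons j ω ih =>
    rw [wordProd_cons]
    exact (ih fun i hi => h0 i (List.mem_cons_of_mem _ hi)).mul (h0 j List.mem_cons_self)

omit C h in
theorem triv_co {X : (I → ℤ) → Subgroup Y} {l : T →* ℂˣ} {i : I} (hL : ∀ t : T, (t : Y) ∈ Li X i → t ∈ (hh i).range)
    (h0 : co hh l i = 0) : Triv X l i := by
  intro t ht
  obtain ⟨x, rfl⟩ := hL t ht
  have h1 : (co hh l i).toMul x = 1 := by rw [h0]; rfl
  exact h1

end Co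

/-- the action of a word on the coordinates -/
def ch (ω : List (Fin 4)) (t : T4) : T4 := ω.foldr WF.r4 t

theorem actw_vec (ω : List (Fin 4)) (t : T4) : actw FF.AF ω (vec t) = vec (ch ω t) := by
  induction ω with
  | nil => rfl
  | cons j ω ih =>
    rw [actw, ih, show ch (j :: ω) t = WF.r4 j (ch ω t) from rfl]
    obtain ⟨a, b, c, d⟩ := ch ω t
    funext i
    fin_cases i <;> fin_cases j <;> simp [act, FF.AF, vec, WF.r4] <;> ring

/-- all the letters move -/
def movB (t : T4) : List (Fin 4) → Bool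
  | [] => true
  | i :: ω => movB t ω && (vec (ch ω t) i % 3 != 0 && nn (H589.FF.WF.act ω.reverse (ee i)))

/-- the character -/
def t0 : T4 := (0, 0, 1, 0)

/-- the word which makes the second factor parabolic -/
def yw : List (Fin 4) := [1, 2, 0, 1, 2, 3, 0, 1, 2]

/-- the first factor -/
def LA : List (List (Fin 4)) := [[], [0], [1], [0, 1], [1, 0], [0, 1, 0]]

/-- the second factor -/
def LB : List (List (Fin 4) × List (Fin 4)) := [([], []), ([2], [3]), ([3], [2, 1, 2, 0, 1, 2, 3, 2, 1, 2, 0, 1, 2]),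
  ([2, 3], [3, 2, 1, 2, 0, 1, 2, 3, 2, 1, 2, 0, 1, 2]), ([3, 2], [2, 1, 2, 0, 1, 2, 3, 2, 1, 2, 0, 1, 2, 3]),
  ([2, 3, 2], [3, 2, 1, 2, 0, 1, 2, 3, 2, 1, 2, 0, 1, 2, 3])]

/-- the stabiliser -/
def LS : List (List (Fin 4)) := LA.flatMap fun a => LB.map fun b => a ++ b.2

theorem mov_yw : movB t0 yw = true := by decide +kernel

theorem ch_yw : vec (ch yw t0) 2 % 3 = 0 ∧ vec (ch yw t0) 3 % 3 = 0 := by decide +kernel

theorem nodup_LS : (LS.map code).Nodup := by decide +kernel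

theorem stab_LS : (WF.LL.all fun ω => !(FF.dv3 fun i => vec (ch ω t0) i - vec t0 i) || (LS.map code).contains (code ω)) =
    true := by decide +kernel

theorem cert_B : ∀ b ∈ LB, code (yw.reverse ++ b.1 ++ yw) = code b.2 ∧ isRed (b.1 ++ yw) = true ∧
    isRed (b.1.reverse ++ yw) = true ∧ ∀ i ∈ b.1, i = 2 ∨ i = 3 := by decide +kernel

theorem cert_AB : ∀ a ∈ LA, (∀ i ∈ a, i = 0 ∨ i = 1) ∧ ∀ b ∈ LB, code (a ++ b.2) = code (b.2 ++ a) ∧
    isRed (a ++ b.2) = true ∧ isRed (a ++ b.2.reverse) = true := by decide +kernel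

theorem len_add {W : Type*} [Group W] (cs : CoxeterSystem CoxeterMatrix.F₄ W) {a b : List (Fin 4)}
    (h : isRed (a ++ b) = true) :
    cs.length (cs.wordProd a * cs.wordProd b) = cs.length (cs.wordProd a) + cs.length (cs.wordProd b) := by
  have h1 := (isReduced_of cs h).eq
  have h2 := cs.length_wordProd_le a
  have h3 := cs.length_wordProd_le b
  have h4 := cs.length_mul_le (cs.wordProd a) (cs.wordProd b)
  rw [cs.wordProd_append, List.length_append] at h1
  omega

variable {W : Type*} {Y : Type u} [Group W] [Group Y] {cs : CoxeterSystem CoxeterMatrix.F₄ W} {A : Fin 4 → Fin 4 → ℤ}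
  {h : IsCartan CoxeterMatrix.F₄ A} {p : ℕ} {T : Subgroup Y} {n : Fin 4 → Y} {X : (Fin 4 → ℤ) → Subgroup Y}
  (R : RGD cs h p T n X) [Finite W] [Finite Y] {V : Type v} [AddCommGroup V] [Module ℂ V] [FiniteDimensional ℂ V]
  {ρ : Representation ℂ Y V} {E : Type*} [CommGroup E] {hh : Fin 4 → E →* T}

theorem mov_of (hA : A = FF.AF) (C : TCo A T n hh) {l : T →* ℂˣ} {c : Additive (E →* ℂˣ)} (hc0 : c ≠ 0)
    (hc : (3 : ℤ) • c = 0) {t : T4} (hco : co hh l = fun i => vec t i • c) {ω : List (Fin 4)} (hω : movB t ω = true) :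
    ∃ l', Mov R l ω l' := by
  subst hA
  induction ω with
  | nil => exact ⟨l, Mov.nil⟩
  | cons i ω ih =>
    simp only [movB, Bool.and_eq_true, bne_iff_ne] at hω
    obtain ⟨l', H⟩ := ih hω.1
    obtain ⟨l'', h1⟩ := exists_mv_to (cs := cs) (hN := R.nsys) (cs.simple i) l'
    refine ⟨l'', H.cons h1 (fun e => hω.2.1 ?_) ((lt_simple_mul cs ω i).2 hω.2.2)⟩
    have h2 := congrFun (co_mv C h h1) i
    rw [← e, co_word C h ω H.mv, hco, actw_smul, act_smul, actw_vec] at h2
    have h3 := FF.dvd_of_zsmul_eq hc0 hc h2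
    rw [act, h.diag, smul_eq_mul] at h3
    omega

include R in
/-- **The series of a character of order three.** -/
theorem three (hA : A = FF.AF) (C : TCo A T n hh) (hG : GG cs h T X = ⊤) (hρ : ρ.IsIrreducible) {q : ℕ}
    (hq : ∀ i, qq X i = q) (hq1 : 1 < q) (hn : ∀ i, n i ∈ Li X i)
    (hL : ∀ i, ∀ t : T, (t : Y) ∈ Li X i → t ∈ (hh i).range) {l : T →* ℂˣ} (hl : Vl cs h T X ρ l ≠ ⊥)
    {c : Additive (E →* ℂˣ)} (hc0 : c ≠ 0) (hc : (3 : ℤ) • c = 0)
    (hco : co hh l = fun i => (![0, 0, 1, 0] : Fin 4 → ℤ) i • c) :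
    ∃ m d : ℕ, m ∣ (2 * q ^ 3 * (1 + q) * (1 + q + q ^ 2)) ^ 2 ∧
      ρ.character 1 * ((m * Nat.card (RGD.B cs h T X) : ℕ) : ℂ) = ((q ^ 6 * Nat.card Y * d : ℕ) : ℂ) := by
  classical
  let _ : Fintype W := Fintype.ofFinite W
  replace hco : co hh l = fun i => vec t0 i • c := hco
  obtain ⟨l', H⟩ := mov_of R hA C hc0 hc hco mov_yw
  subst hA
  have hco' := co_word C h yw H.mv
  rw [hco, actw_smul, actw_vec] at hco'
  have z0 : co hh l 0 = 0 := by rw [hco]; exact zero_zsmul c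
  have z1 : co hh l 1 = 0 := by rw [hco]; exact zero_zsmul c
  have z2 : co hh l' 2 = 0 := by rw [hco']; exact FF.zsmul_of_dvd hc (Int.dvd_of_emod_eq_zero ch_yw.1)
  have z3 : co hh l' 3 = 0 := by rw [hco']; exact FF.zsmul_of_dvd hc (Int.dvd_of_emod_eq_zero ch_yw.2)
  have mA : ∀ a ∈ LA, Mv cs R.nsys (cs.wordProd a) l l := fun a ha => mv_word fun i hi => by
    rcases (cert_AB a ha).1 i hi with rfl | rfl
    · exact mv_fix C h z0
    · exact mv_fix C h z1
  have mB : ∀ b ∈ LB, Mv cs R.nsys (cs.wordProd b.1) l' l' := fun b hb => mv_word fun i hi => by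
    rcases (cert_B b hb).2.2.2 i hi with rfl | rfl
    · exact mv_fix C h z2
    · exact mv_fix C h z3
  have eB : ∀ b ∈ LB, cs.wordProd b.2 = (cs.wordProd yw)⁻¹ * cs.wordProd b.1 * cs.wordProd yw := fun b hb => by
    rw [← eq_of_code cs (cert_B b hb).1, cs.wordProd_append, cs.wordProd_append, cs.wordProd_reverse]
  obtain ⟨d, hd, hdeg⟩ := schur_sum R ρ hG hρ hq l
  have hnd : (LS.map cs.wordProd).Nodup :=
    (List.nodup_map_iff_inj_on (List.Nodup.of_map _ nodup_LS)).2 fun ω hω ω' hω' e =>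
      List.inj_on_of_nodup_map nodup_LS hω hω' (code_of_eq cs e)
  have h1 : ∑ w, NQ R ρ q l w = (LB.map fun b => NQ R ρ q l (cs.wordProd b.2)).sum *
      (LA.map fun a => NQ R ρ q l (cs.wordProd a)).sum := by
    rw [← Finset.sum_subset (Finset.subset_univ (LS.map cs.wordProd).toFinset) fun w _ hw => NQ_zero R ρ q fun hm => hw ?_,
      List.sum_toFinset _ hnd, List.map_map, LS, List.map_flatMap, List.flatMap_def, List.sum_flatten, List.map_map,
      ← List.sum_map_mul_left]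
    · refine congrArg _ (List.map_congr_left fun a ha => ?_)
      rw [Function.comp_apply, List.map_map, ← List.sum_map_mul_right]
      refine congrArg _ (List.map_congr_left fun b hb => ?_)
      obtain ⟨f1, f2, f3⟩ := (cert_AB a ha).2 b hb
      have f4 := eq_of_code cs f1
      have f5 := len_add cs f3
      rw [cs.wordProd_reverse, cs.length_inv] at f5
      rw [cs.wordProd_append, cs.wordProd_append] at f4
      simp only [Function.comp_apply, cs.wordProd_append]
      exact NQ_mul R ρ q (mA a ha) (by rw [eB b hb]; exact H.mv.mul ((mB b hb).mul H.mv.inv)) f4 (len_add cs f2) f5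
    · obtain ⟨ω, hω, rfl⟩ := List.mem_map.1 (List.mem_toFinset.1 (WF.toFinset_LL cs ▸ Finset.mem_univ w))
      have f1 := List.all_eq_true.1 stab_LS ω hω
      have f2 := co_word C h ω hm
      rw [hco, actw_smul, actw_vec] at f2
      rw [FF.dv3_iff.2 fun i => FF.dvd_of_zsmul_eq hc0 hc (congrFun f2 i).symm, Bool.not_true, Bool.false_or,
        List.contains_iff_mem] at f1
      obtain ⟨ω', f3, f4⟩ := List.mem_map.1 f1
      exact List.mem_toFinset.2 (List.mem_map.2 ⟨ω', f3, eq_of_code cs f4⟩)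
  have : Nontrivial (Vl cs h T X ρ l) := Submodule.nontrivial_iff_ne_bot.2 hl
  obtain ⟨c₁, hc₁⟩ := Module.End.exists_eigenvalue (LA.map fun a => NQ R ρ q l (cs.wordProd a)).sum
  obtain ⟨v, hv⟩ := hc₁.exists_hasEigenvector
  have len : ∀ {ω : List (Fin 4)}, isRed ω = true → cs.length (cs.wordProd ω) = ω.length := fun e =>
    (isReduced_of cs e).eq
  obtain ⟨m₁, d₁, e₁⟩ := NQ_a2 R ρ hq hq1 (mv_fix C h z0) (mv_fix C h z1) (hn 0) (hn 1) (triv_co (hL 0) z0)
    (triv_co (hL 1) z1) (len (by decide)) (len (by decide)) (len (by decide)) (eq_of_code cs (by decide)) hv.2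
    hv.apply_eq_smul
  have hc₁0 : c₁ ≠ 0 := by
    rintro rfl
    obtain rfl : m₁ = 0 := by exact_mod_cast (e₁.symm.trans (mul_zero _))
    exact absurd (Nat.eq_zero_of_zero_dvd d₁) (by positivity)
  have h2 : (LB.map fun b => NQ R ρ q l (cs.wordProd b.2)).sum v = (d / c₁) • v := by
    have f1 := LinearMap.congr_fun (h1.symm.trans hd) v
    rw [Module.End.mul_apply, hv.apply_eq_smul, map_smul, LinearMap.smul_apply, Module.End.one_apply] at f1
    rw [div_eq_inv_mul, mul_smul, ← f1, inv_smul_smul₀ hc₁0]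
  obtain ⟨k, hk, hkv⟩ := H.ne hv.2
  have h3 : ∀ b ∈ LB, NQ R ρ q l' (cs.wordProd b.1) (aa R ρ l l' k v) =
      aa R ρ l l' k (NQ R ρ q l (cs.wordProd b.2) v) := fun b hb => by
    obtain ⟨-, f2, f3, -⟩ := cert_B b hb
    have f5 := len_add cs f3
    rw [cs.wordProd_reverse, cs.length_inv] at f5
    rw [eB b hb]
    exact (LinearMap.congr_fun (NQ_conj R ρ hq (by omega) H (mB b hb) (len_add cs f2) f5 hk) v).symm
  obtain ⟨m₂, d₂, e₂⟩ := NQ_a2 R ρ hq hq1 (mv_fix C h z2) (mv_fix C h z3) (hn 2) (hn 3) (triv_co (hL 2) z2)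
    (triv_co (hL 3) z3) (len (by decide)) (len (by decide)) (len (by decide)) (eq_of_code cs (by decide)) hkv
    (c := d / c₁) (by
      rw [← map_smul, ← h2]
      simp only [LB, List.forall_mem_cons] at h3
      simp only [LB, List.map_cons, List.map_nil, List.sum_cons, List.sum_nil, LinearMap.add_apply, map_add,
        LinearMap.zero_apply, map_zero, h3])
  refine ⟨m₁ * m₂, finrank ℂ (Vl cs h T X ρ l), by rw [sq]; exact mul_dvd_mul d₁ d₂, ?_⟩
  push_cast
  rw [← e₁, ← e₂, mul_assoc ((q : ℂ) ^ 6), ← hdeg]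
  field_simp

end Cfsg.Agent.VAN.F
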