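import Cfsg.Agent.VAN.F.Asm
import Cfsg.Agent.VAN.F.Three
import Cfsg.Agent.H364.OZ.ChevSL

/-!
# S4942: the row `F₄` (helper5)
-/

set_option autoImplicit false

namespace Cfsg.Agent.VAN.F

open Cfsg Cfsg.Lie Cfsg.Agent.ChevalleyStructure.CoxeterGeom Cfsg.Agent.ChevalleyStructure.CoxeterGeomTypes
  Cfsg.Agent.Nodes.RGDChev Cfsg.Agent.KFacts.RgdChevCoord Cfsg.Agent.Tits.Roots Cfsg.Agent.GenExc.Chev

universe u

/-- **`F₄(q)`, `q ≥ 3`** -/
theorem van3_f4 {F : Type} [Field F] [Fintype F] (hq3 : 3 ≤ Fintype.card F) : Van3 ↥(chevF4.group F) := by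
  obtain ⟨p, hp⟩ := CharP.exists F
  have : Fact p.Prime := ⟨CharP.char_is_prime F p⟩
  have := finite_W isType_F4 CoxeterMatrix.F₄.toCoxeterSystem
  exact van3_of_thr hq3 fun _ _ hρ _ hl _ hc0 hc hco =>
    three (rgd (K := F) isType_F4 CoxeterMatrix.F₄.toCoxeterSystem p) H650.OZ.FF.cartan_F4 (H650.OZ.FF.tco isType_F4 p)
      (KFacts.RgdRigid.GG_eq_top (T := TT chevF4 F) (G1_eq_top isType_F4 _)) hρ
      (fun i => ClosedExc.Chev.card_XX isType_F4 F CoxeterMatrix.F₄.toCoxeterSystem (isRoot_sr _ _ i)) (by omega)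
      (H364.OZ.ChevSL.ni_mem isType_F4 F)
      (H364.OZ.ChevSL.mem_range_hh isType_F4 F CoxeterMatrix.F₄.toCoxeterSystem p) hl hc0 hc hco

/-- **the row**, from `F₄(2)` -/
theorem row_f4_of (h2 : ∀ (F : Type) [Field F] [Fintype F], Fintype.card F = 2 → Van3 ↥(chevF4.group F)) :
    Row.{u} (fun G _ => Lie.IsoF4 G) := by
  rintro G _ _ _ _ ⟨F, i1, i2, ⟨e⟩⟩
  refine Van3.of_equiv ?_ e.symm
  have h1 : 1 < Fintype.card F := Fintype.one_lt_card
  by_cases h : Fintype.card F = 2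
  · exact h2 F h
  · exact van3_f4 (by omega)

end Cfsg.Agent.VAN.F
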